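import Groth.Agent.Sga4h.GoodOnDef
import Groth.Agent.EtpbcA.PullFLC

/-!
# Morphisms whose higher direct images of `ℤ/n` commute with base change and are finite locally constant

`Nice n f`: the derived base change maps for `f` and the constant sheaf `ℤ/n` are isomorphisms for every
base change, and all `R^q f_* ℤ/n` are finite locally constant. Stable under base change.
-/

set_option autoImplicit false

universe u

open CategoryTheory CategoryTheory.Limits AlgebraicGeometry
open DerivedCategory (homologyFunctor singleFunctor)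

attribute [local instance] HasDerivedCategory.standard

namespace Groth.Agent.Sga7.H25.Nice

open Groth.Agent.Etrest.DEtPush Groth.Agent.Sga4h Groth.Agent.Sga4h.GSq

variable {X S : Scheme.{u}}

/-- The constant sheaf `ℤ/n` in the derived category. -/
noncomputable abbrev cst (n : ℕ) (X : Scheme.{u}) : DCoh.DEt X :=
  (singleFunctor (EtCoh.Ab X) 0).obj (EtCoh.const X (ZMod n))

/-- The base change maps of the constant sheaf `ℤ/n` are isomorphisms for every base change, and its
higher direct images are finite locally constant. -/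
structure Nice (n : ℕ) (f : X ⟶ S) : Prop where
  bc : ∀ ⦃S' X' : Scheme.{u}⦄ (g : S' ⟶ S) (g' : X' ⟶ X) (f' : X' ⟶ S')
    (h : IsPullback g' f' f g), GSq.BC h.w (cst n X)
  flc : ∀ q : ℕ, EtCoh.IsFiniteLocallyConstant ((EtCoh.Rpush f q).obj (EtCoh.const X (ZMod n)))

/-- Inverse images of constant sheaves in the derived category. -/
noncomputable def pullCst (n : ℕ) {X' : Scheme.{u}} (g : X' ⟶ X) :
    (pullD g).obj (cst n X) ≅ cst n X' :=
  ((EtCoh.pull g).mapDerivedCategorySingleFunctor 0).app _ ≪≫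
    (singleFunctor (EtCoh.Ab X') 0).mapIso (EtCore.pullConst g (ZMod n))

variable {n : ℕ} {f : X ⟶ S}

theorem Nice.bc_iso (h : Nice n f) {S' X' : Scheme.{u}} {g : S' ⟶ S} {g' : X' ⟶ X} {f' : X' ⟶ S'}
    (hsq : IsPullback g' f' f g) (q : ℕ) :
    Nonempty ((EtCoh.pull g).obj ((EtCoh.Rpush f q).obj (EtCoh.const X (ZMod n))) ≅
      (EtCoh.Rpush f' q).obj (EtCoh.const X' (ZMod n))) := by
  obtain ⟨e⟩ := GSq.nonempty_baseChange_iso _ (h.bc g g' f' hsq) q
  exact ⟨e ≪≫ (EtCoh.Rpush f' q).mapIso (EtCore.pullConst g' (ZMod n))⟩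

/-- Stability under base change. -/
theorem Nice.baseChange (h : Nice n f) {S' X' : Scheme.{u}} {g : S' ⟶ S} {g' : X' ⟶ X}
    {f' : X' ⟶ S'} (hsq : IsPullback g' f' f g) : Nice n f' where
  bc S'' X'' k k' f'' hk := by
    have h1 := h.bc g g' f' hsq
    have h2 := h.bc (k ≫ g) (k' ≫ g') f'' (hk.paste_horiz hsq)
    have h3 : GSq.BC hk.w ((pullD g').obj (cst n X)) := h1.of_hcomp h2
    exact h3.of_iso (pullCst n g')
  flc q := by
    obtain ⟨e⟩ := h.bc_iso hsq q
    exact EtpbcA.PullFLC.isFLC_of_iso e (EtpbcA.PullFLC.isFLC_pull g _ (h.flc q))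

/-- Invariance under isomorphisms of the source. -/
theorem Nice.of_iso (h : Nice n f) {X' : Scheme.{u}} (e : X' ≅ X) {f' : X' ⟶ S}
    (hf : e.hom ≫ f = f') : Nice n f' :=
  h.baseChange (g := 𝟙 S) (g' := e.hom) (IsPullback.of_horiz_isIso ⟨by simp [hf]⟩)

end Groth.Agent.Sga7.H25.Nice
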