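import Groth.Agent.Flat2D.ApproxFP
import Mathlib.AlgebraicGeometry.Morphisms.FiniteType
import Mathlib.AlgebraicGeometry.Morphisms.FinitePresentation

/-!
# Schemes of finite type over the fraction field of a domain: models over finitely generated subrings

`R` a domain with fraction field `K`, `A` a subalgebra of `R` over `ℤ`, `g ∈ A` nonzero.

* `toK A : A →+* K`, `awayHom A g hg : A[1/g] →+* K`, `awayMap : A[1/g] →+* A'[1/g']` for `A ≤ A'`, `g ∣ g'`.
* `exists_model`: a finite type `K`-scheme is the base change of a finite type scheme over a finitely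
  generated subring of `R` containing a given finite set.
* `isPullback_away`, `isPullback_awayMap`: localization and enlargement of a model.
-/

set_option autoImplicit false
set_option linter.unusedSectionVars false

universe u

open CategoryTheory CategoryTheory.Limits AlgebraicGeometry

namespace Groth.Agent.Sga7.H25.Spread

variable {R K : Type u} [CommRing R] [Field K] [Algebra R K]

/-- the inclusion in `K` of a subring of `R` -/
def toK (K : Type u) [Field K] [Algebra R K] (A : Subalgebra ℤ R) : A →+* K :=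
  (algebraMap R K).comp A.val.toRingHom

@[simp] theorem toK_apply (A : Subalgebra ℤ R) (x : A) : toK K A x = algebraMap R K x := rfl

variable [IsDomain R] [IsFractionRing R K]

theorem toK_injective (A : Subalgebra ℤ R) : Function.Injective (toK K A) :=
  (IsFractionRing.injective R K).comp Subtype.val_injective

/-- the inclusion of `A[1/g]` in `K` -/
noncomputable def awayHom (K : Type u) [Field K] [Algebra R K] [IsFractionRing R K]
    (A : Subalgebra ℤ R) (g : A) (hg : g ≠ 0) : Localization.Away g →+* K :=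
  IsLocalization.Away.lift g (g := toK K A) (isUnit_iff_ne_zero.2 (by
    rw [Ne, map_eq_zero_iff _ (toK_injective A)]
    exact hg))

theorem awayHom_comp (A : Subalgebra ℤ R) (g : A) (hg : g ≠ 0) :
    (awayHom K A g hg).comp (algebraMap A (Localization.Away g)) = toK K A :=
  IsLocalization.Away.lift_comp _ _

@[simp] theorem awayHom_algebraMap (A : Subalgebra ℤ R) (g : A) (hg : g ≠ 0) (x : A) :
    awayHom K A g hg (algebraMap A (Localization.Away g) x) = algebraMap R K x :=
  IsLocalization.Away.lift_eq _ _ _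

theorem awayHom_injective (A : Subalgebra ℤ R) (g : A) (hg : g ≠ 0) :
    Function.Injective (awayHom K A g hg) := by
  rw [injective_iff_map_eq_zero]
  intro x hx
  obtain ⟨n, a, h⟩ := IsLocalization.Away.surj g x
  have h1 := congrArg (awayHom K A g hg) h
  rw [map_mul, hx, zero_mul, awayHom_algebraMap] at h1
  have h2 : (a : R) = 0 := by
    rw [← map_eq_zero_iff _ (IsFractionRing.injective R K)]
    exact h1.symm
  have h3 : a = 0 := Subtype.ext h2
  rw [h3, map_zero] at h
  have h4 : IsUnit (algebraMap A (Localization.Away g) (g ^ n)) := by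
    rw [map_pow]
    exact (IsLocalization.Away.algebraMap_isUnit g).pow n
  have h5 : x * algebraMap A (Localization.Away g) (g ^ n) = 0 := by
    rw [map_pow]
    exact h
  exact (IsUnit.mul_left_eq_zero h4).1 h5

/-- the inclusion `A[1/g] → A'[1/g']` for `A ≤ A'` and `g ∣ g'` -/
noncomputable def awayMap {A A' : Subalgebra ℤ R} (h : A ≤ A') (g : A) (g' : A')
    (hg : Subalgebra.inclusion h g ∣ g') : Localization.Away g →+* Localization.Away g' :=
  IsLocalization.Away.lift g (g := (algebraMap A' (Localization.Away g')).comp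
    (Subalgebra.inclusion h).toRingHom) (by
      have h1 : algebraMap A' (Localization.Away g') (Subalgebra.inclusion h g) ∣
        algebraMap A' (Localization.Away g') g' := map_dvd _ hg
      exact isUnit_of_dvd_unit h1 (IsLocalization.Away.algebraMap_isUnit g'))

@[simp] theorem awayMap_algebraMap {A A' : Subalgebra ℤ R} (h : A ≤ A') (g : A) (g' : A')
    (hg : Subalgebra.inclusion h g ∣ g') (x : A) :
    awayMap h g g' hg (algebraMap A _ x) = algebraMap A' _ (Subalgebra.inclusion h x) :=
  IsLocalization.Away.lift_eq _ _ _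

theorem awayHom_comp_awayMap {A A' : Subalgebra ℤ R} (h : A ≤ A') (g : A) (g' : A')
    (hg : Subalgebra.inclusion h g ∣ g') (hg0 : g ≠ 0) (hg0' : g' ≠ 0) :
    (awayHom K A' g' hg0').comp (awayMap h g g' hg) = awayHom K A g hg0 := by
  refine IsLocalization.ringHom_ext (Submonoid.powers g) ?_
  ext x
  rw [RingHom.comp_assoc, RingHom.comp_apply, RingHom.comp_apply, awayMap_algebraMap,
    awayHom_algebraMap, RingHom.comp_apply, awayHom_algebraMap]
  rfl

/-- A finitely generated subring of `K` is contained in `A[1/g]`. -/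
theorem exists_lift (E : Set R) (hE : E.Finite) (S : Subalgebra ℤ K) (hS : S.FG) :
    ∃ (A : Subalgebra ℤ R) (_ : A.FG) (_ : E ⊆ A) (g : A) (hg : g ≠ 0)
      (φ : S →+* Localization.Away g), (awayHom K A g hg).comp φ = S.val.toRingHom := by
  classical
  obtain ⟨s, hs⟩ := hS
  choose a b hb hab using fun x : K => IsFractionRing.div_surjective (A := R) x
  let T : Set R := E ∪ (a '' s ∪ b '' s)
  have hT : T.Finite := hE.union ((s.finite_toSet.image a).union (s.finite_toSet.image b))
  let A : Subalgebra ℤ R := Algebra.adjoin ℤ T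
  have hA : A.FG := Subalgebra.fg_def.2 ⟨T, hT, rfl⟩
  have ha : ∀ x ∈ s, a x ∈ A := fun x hx => Algebra.subset_adjoin (Or.inr (Or.inl ⟨x, hx, rfl⟩))
  have hbA : ∀ x ∈ s, b x ∈ A := fun x hx => Algebra.subset_adjoin (Or.inr (Or.inr ⟨x, hx, rfl⟩))
  let g : A := ∏ x : s, ⟨b x.1, hbA x.1 x.2⟩
  have hg : g ≠ 0 := by
    rw [Finset.prod_ne_zero_iff]
    intro x _ h
    exact nonZeroDivisors.ne_zero (hb x.1) (congrArg Subtype.val h)
  have h1 : ∀ x : S, ∃ y : Localization.Away g, awayHom K A g hg y = x.1 := by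
    let P : Subalgebra ℤ K := subalgebraOfSubring (awayHom K A g hg).range
    have h2 : S ≤ P := by
      rw [← hs, Algebra.adjoin_le_iff]
      intro x hx
      change x ∈ (awayHom K A g hg).range
      rw [← hab x]
      have hx1 : (⟨b x, hbA x hx⟩ : A) ∣ g := Finset.dvd_prod_of_mem (fun x : s => (⟨b x.1, hbA x.1 x.2⟩ : A))
        (Finset.mem_univ (⟨x, hx⟩ : s))
      have hu : IsUnit (algebraMap A (Localization.Away g) ⟨b x, hbA x hx⟩) :=
        isUnit_of_dvd_unit (map_dvd _ hx1) (IsLocalization.Away.algebraMap_isUnit g)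
      obtain ⟨v, hv⟩ := hu
      refine ⟨algebraMap A _ ⟨a x, ha x hx⟩ * (v⁻¹ : (Localization.Away g)ˣ), ?_⟩
      have h3 : awayHom K A g hg ((v⁻¹ : (Localization.Away g)ˣ) : Localization.Away g) =
          (algebraMap R K (b x))⁻¹ := by
        have h4 : awayHom K A g hg (v : Localization.Away g) = algebraMap R K (b x) := by
          rw [hv, awayHom_algebraMap]
        rw [← h4]
        refine eq_inv_of_mul_eq_one_left ?_
        rw [← map_mul, Units.inv_mul, map_one]
      rw [map_mul, h3, awayHom_algebraMap, div_eq_mul_inv]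
    exact fun x => h2 x.2
  choose φ hφ using h1
  refine ⟨A, hA, fun x hx => Algebra.subset_adjoin (Or.inl hx), g, hg,
    { toFun := φ
      map_one' := awayHom_injective A g hg (by rw [hφ, map_one]; rfl)
      map_zero' := awayHom_injective A g hg (by rw [hφ, map_zero]; rfl)
      map_mul' := fun x y => awayHom_injective A g hg (by rw [hφ, map_mul, hφ, hφ]; rfl)
      map_add' := fun x y => awayHom_injective A g hg (by rw [hφ, map_add, hφ, hφ]; rfl) }, ?_⟩
  ext x
  exact hφ x

/-- A finite type `K`-scheme is the base change of a finite type scheme over a finitely generated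
subring of `R`, which may be chosen to contain any given finite subset. -/
theorem exists_model (E : Set R) (hE : E.Finite) {X : Scheme.{u}} (f : X ⟶ Spec (CommRingCat.of K))
    [LocallyOfFiniteType f] [QuasiCompact f] :
    ∃ (A : Subalgebra ℤ R) (_ : A.FG) (_ : E ⊆ A) (X₀ : Scheme.{u})
      (f₀ : X₀ ⟶ Spec (CommRingCat.of A)) (p : X ⟶ X₀),
      LocallyOfFiniteType f₀ ∧ QuasiCompact f₀ ∧
      IsPullback p f f₀ (Spec.map (CommRingCat.ofHom (toK K A))) := by
  have i1 : IsLocallyNoetherian X := LocallyOfFiniteType.isLocallyNoetherian f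
  have i2 : LocallyOfFinitePresentation f := inferInstance
  have i3 : QuasiSeparated f := inferInstance
  obtain ⟨S, hS, X₁, f₁, q, j1, j2, j3, hq⟩ := Groth.Agent.Flat2D.ApproxFP.exists_model_Spec K f
  obtain ⟨A, hA, hEA, g, hg, φ, hφ⟩ := exists_lift E hE S hS
  let t : Spec (CommRingCat.of (Localization.Away g)) ⟶ Spec (CommRingCat.of S) :=
    Spec.map (CommRingCat.ofHom φ)
  let k : Spec (CommRingCat.of K) ⟶ Spec (CommRingCat.of (Localization.Away g)) :=
    Spec.map (CommRingCat.ofHom (awayHom K A g hg))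
  have hk : k ≫ t = Spec.map (CommRingCat.ofHom S.val.toRingHom) := by
    rw [← Spec.map_comp, ← CommRingCat.ofHom_comp, hφ]
  let X₂ := pullback f₁ t
  let f₂ : X₂ ⟶ Spec (CommRingCat.of (Localization.Away g)) := pullback.snd f₁ t
  let r : X ⟶ X₂ := pullback.lift q (f ≫ k) (by rw [hq.w, ← hk, Category.assoc])
  have hr : IsPullback r f f₂ k := by
    refine IsPullback.of_right (h₁₁ := r) (h₁₂ := pullback.fst f₁ t) (h₂₁ := k) (h₂₂ := t)
      ?_ (pullback.lift_snd _ _ _) (IsPullback.of_hasPullback f₁ t)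
    rw [pullback.lift_fst, hk]
    exact hq
  let j : Spec (CommRingCat.of (Localization.Away g)) ⟶ Spec (CommRingCat.of A) :=
    Spec.map (CommRingCat.ofHom (algebraMap A (Localization.Away g)))
  have hj : IsOpenImmersion j := IsOpenImmersion.of_isLocalization g
  have hkj : k ≫ j = Spec.map (CommRingCat.ofHom (toK K A)) := by
    rw [← Spec.map_comp, ← CommRingCat.ofHom_comp, awayHom_comp]
  refine ⟨A, hA, hEA, X₂, f₂ ≫ j, r, inferInstance, ?_, ?_⟩
  · have : QuasiCompact j := inferInstance
    infer_instance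
  · rw [← hkj]
    have h5 : IsPullback (𝟙 _) (𝟙 _) j j := IsKernelPair.id_of_mono j
    have h6 : IsPullback (𝟙 X₂) f₂ (f₂ ≫ j) j := by
      have h7 : IsPullback (𝟙 X₂) f₂ f₂ (𝟙 _) := IsPullback.of_horiz_isIso ⟨by simp⟩
      simpa using h7.paste_vert h5
    simpa using hr.paste_horiz h6

/-- Localization of a model. -/
theorem isPullback_away (A : Subalgebra ℤ R) (g : A) (hg : g ≠ 0) {X X₀ : Scheme.{u}}
    {f : X ⟶ Spec (CommRingCat.of K)} {f₀ : X₀ ⟶ Spec (CommRingCat.of A)} {p : X ⟶ X₀}
    (h : IsPullback p f f₀ (Spec.map (CommRingCat.ofHom (toK K A)))) {X₁ : Scheme.{u}}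
    {f₁ : X₁ ⟶ Spec (CommRingCat.of (Localization.Away g))} {q : X₁ ⟶ X₀}
    (h₁ : IsPullback q f₁ f₀ (Spec.map (CommRingCat.ofHom (algebraMap A (Localization.Away g))))) :
    ∃ r : X ⟶ X₁, r ≫ q = p ∧
      IsPullback r f f₁ (Spec.map (CommRingCat.ofHom (awayHom K A g hg))) := by
  have hk : Spec.map (CommRingCat.ofHom (awayHom K A g hg)) ≫
      Spec.map (CommRingCat.ofHom (algebraMap A (Localization.Away g))) =
      Spec.map (CommRingCat.ofHom (toK K A)) := by
    rw [← Spec.map_comp, ← CommRingCat.ofHom_comp, awayHom_comp]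
  refine ⟨h₁.lift p (f ≫ Spec.map (CommRingCat.ofHom (awayHom K A g hg)))
    (by rw [h.w, ← hk, Category.assoc]), h₁.lift_fst _ _ _, ?_⟩
  refine IsPullback.of_right ?_ (h₁.lift_snd _ _ _) h₁
  rw [h₁.lift_fst, hk]
  exact h

/-- Enlargement of a model. -/
theorem isPullback_awayMap {A A' : Subalgebra ℤ R} (hA : A ≤ A') (g : A) (g' : A')
    (hgg : Subalgebra.inclusion hA g ∣ g') (hg : g ≠ 0) (hg' : g' ≠ 0) {X X₀ : Scheme.{u}}
    {f : X ⟶ Spec (CommRingCat.of K)} {f₀ : X₀ ⟶ Spec (CommRingCat.of (Localization.Away g))}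
    {p : X ⟶ X₀} (h : IsPullback p f f₀ (Spec.map (CommRingCat.ofHom (awayHom K A g hg))))
    {X₁ : Scheme.{u}} {f₁ : X₁ ⟶ Spec (CommRingCat.of (Localization.Away g'))} {q : X₁ ⟶ X₀}
    (h₁ : IsPullback q f₁ f₀ (Spec.map (CommRingCat.ofHom (awayMap hA g g' hgg)))) :
    ∃ r : X ⟶ X₁, r ≫ q = p ∧
      IsPullback r f f₁ (Spec.map (CommRingCat.ofHom (awayHom K A' g' hg'))) := by
  have hk : Spec.map (CommRingCat.ofHom (awayHom K A' g' hg')) ≫
      Spec.map (CommRingCat.ofHom (awayMap hA g g' hgg)) =
      Spec.map (CommRingCat.ofHom (awayHom K A g hg)) := by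
    rw [← Spec.map_comp, ← CommRingCat.ofHom_comp, awayHom_comp_awayMap (hg0 := hg) (hg0' := hg')]
  refine ⟨h₁.lift p (f ≫ Spec.map (CommRingCat.ofHom (awayHom K A' g' hg')))
    (by rw [h.w, ← hk, Category.assoc]), h₁.lift_fst _ _ _, ?_⟩
  refine IsPullback.of_right ?_ (h₁.lift_snd _ _ _) h₁
  rw [h₁.lift_fst, hk]
  exact h

end Groth.Agent.Sga7.H25.Spread
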