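import Groth.Agent.Sga7.H169.EtDelta
import Groth.Agent.Sga7.H754.SCDef

/-!
# Dévissage: bijectivity of `HC` from `ℤ/ℓ` to `ℤ/ℓ^ν`

* `inj_mid`, `surj_mid`: the five lemma for a morphism of delta functors with values in abelian groups;
* `bijective_pow`: if `HC (ZMod ℓ) g q` is bijective for all `q`, so is `HC (ZMod (ℓ ^ ν)) g q`;
* `bijective_pow_of_le`: the version in degrees `≤ m`;
* `SC.pow`: `SC f (m + 1) (ZMod ℓ)` implies `SC f m (ZMod (ℓ ^ ν))`.
-/

set_option autoImplicit false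

universe u v w v'

open CategoryTheory CategoryTheory.Limits CategoryTheory.Abelian AlgebraicGeometry Opposite

namespace Groth.Agent.Sga7.H25.SCDev

section five

open Groth.Agent.Localalg.DeltaFun

variable {C : Type v'} [Category.{v} C] [Abelian C] {T T' : DeltaFunctor C AddCommGrpCat.{w}}
  (Φ : DeltaHom T T') {S : ShortComplex C} (hS : S.ShortExact)

/-- Injectivity of the component in degree `n` at `X`. -/
def Inj (n : ℕ) (X : C) : Prop := Function.Injective ((Φ.app n).app X).hom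

/-- Surjectivity of the component in degree `n` at `X`. -/
def Surj (n : ℕ) (X : C) : Prop := Function.Surjective ((Φ.app n).app X).hom

theorem nat_apply {X Y : C} (f : X ⟶ Y) (n : ℕ) (x : (T.T n).obj X) :
    ((Φ.app n).app Y).hom (((T.T n).map f).hom x) = ((T'.T n).map f).hom (((Φ.app n).app X).hom x) :=
  congrArg (fun k => k.hom x) ((Φ.app n).naturality f)

theorem comm_apply (n : ℕ) (x : (T.T n).obj S.X₃) :
    ((Φ.app (n + 1)).app S.X₁).hom ((T.δ hS n).hom x) =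
      (T'.δ hS n).hom (((Φ.app n).app S.X₃).hom x) :=
  (congrArg (fun k => k.hom x) (Φ.comm hS n)).symm

include hS in
theorem exact₂_apply (n : ℕ) (x : (T.T n).obj S.X₂) (hx : ((T.T n).map S.g).hom x = 0) :
    ∃ y : (T.T n).obj S.X₁, ((T.T n).map S.f).hom y = x :=
  (ShortComplex.ab_exact_iff _).1 (T.exact₂ hS n) x hx

theorem exact₁_apply (n : ℕ) (x : (T.T (n + 1)).obj S.X₁) (hx : ((T.T (n + 1)).map S.f).hom x = 0) :
    ∃ y : (T.T n).obj S.X₃, (T.δ hS n).hom y = x :=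
  (ShortComplex.ab_exact_iff _).1 (T.exact₁ hS n) x hx

theorem exact₃_apply (n : ℕ) (x : (T.T n).obj S.X₃) (hx : (T.δ hS n).hom x = 0) :
    ∃ y : (T.T n).obj S.X₂, ((T.T n).map S.g).hom y = x :=
  (ShortComplex.ab_exact_iff _).1 (T.exact₃ hS n) x hx

theorem map_f_δ (n : ℕ) (x : (T.T n).obj S.X₃) : ((T.T (n + 1)).map S.f).hom ((T.δ hS n).hom x) = 0 :=
  congrArg (fun k => k.hom x) (T.zero₁ hS n)

theorem δ_map_g (n : ℕ) (x : (T.T n).obj S.X₂) : (T.δ hS n).hom (((T.T n).map S.g).hom x) = 0 :=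
  congrArg (fun k => k.hom x) (T.zero₃ hS n)

theorem map_g_f (n : ℕ) (x : (T.T n).obj S.X₁) :
    ((T.T n).map S.g).hom (((T.T n).map S.f).hom x) = 0 := by
  have h := congrArg (fun k => k.hom x) (S.map (T.T n)).zero
  exact h

include hS in
/-- Four lemma, injectivity, degree `0`. -/
theorem inj_mid_zero (h1 : Inj Φ 0 S.X₁) (h3 : Inj Φ 0 S.X₃)
    (hf : Function.Injective ((T'.T 0).map S.f).hom) : Inj Φ 0 S.X₂ := by
  refine (injective_iff_map_eq_zero _).2 fun x hx => ?_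
  have h4 : ((T.T 0).map S.g).hom x = 0 := h3 (by rw [nat_apply, hx, map_zero, map_zero])
  obtain ⟨y, rfl⟩ := exact₂_apply hS 0 x h4
  rw [nat_apply] at hx
  have h5 := (injective_iff_map_eq_zero _).1 hf _ hx
  rw [(injective_iff_map_eq_zero _).1 h1 y h5, map_zero]

include hS in
/-- Four lemma, injectivity. -/
theorem inj_mid_succ (n : ℕ) (h0 : Surj Φ n S.X₃) (h1 : Inj Φ (n + 1) S.X₁) (h3 : Inj Φ (n + 1) S.X₃) :
    Inj Φ (n + 1) S.X₂ := by
  refine (injective_iff_map_eq_zero _).2 fun x hx => ?_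
  have h4 : ((T.T (n + 1)).map S.g).hom x = 0 := h3 (by rw [nat_apply, hx, map_zero, map_zero])
  obtain ⟨y, rfl⟩ := exact₂_apply hS (n + 1) x h4
  rw [nat_apply] at hx
  obtain ⟨z', hz'⟩ := exact₁_apply hS n _ hx
  obtain ⟨z, rfl⟩ := h0 z'
  rw [← comm_apply] at hz'
  rw [← h1 hz', map_f_δ]

include hS in
/-- Four lemma, surjectivity. -/
theorem surj_mid (n : ℕ) (h1 : Surj Φ n S.X₁) (h3 : Surj Φ n S.X₃) (h4 : Inj Φ (n + 1) S.X₁) :
    Surj Φ n S.X₂ := by
  intro y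
  obtain ⟨z, hz⟩ := h3 (((T'.T n).map S.g).hom y)
  have h5 : (T.δ hS n).hom z = 0 := h4 (by rw [comm_apply, hz, δ_map_g, map_zero])
  obtain ⟨x, rfl⟩ := exact₃_apply hS n z h5
  rw [nat_apply] at hz
  have h6 : ((T'.T n).map S.g).hom (y - ((Φ.app n).app S.X₂).hom x) = 0 := by
    rw [map_sub, hz, sub_self]
  obtain ⟨w', hw'⟩ := exact₂_apply hS n _ h6
  obtain ⟨w, rfl⟩ := h1 w'
  refine ⟨((T.T n).map S.f).hom w + x, ?_⟩
  rw [map_add, nat_apply, hw', sub_add_cancel]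

end five

open Groth.Agent.Sga7.H169.EtDelta Groth.Agent.Sga7.H169.DeltaTower Groth.Agent.Etcore.HC
  Groth.Agent.Etcore.EtInst Groth.Agent.Localalg.DeltaFun
open scoped Groth.Agent.Etcore.EtInst Groth.Agent.Etcore.HC

attribute [local instance] preservesFiniteLimits_cst preservesFiniteColimits_cst additive_cst

/-- `H^0(Y, -)` preserves monomorphisms. -/
theorem injective_map_zero (Y : Scheme.{u}) {A B : AddCommGrpCat.{u + 1}} (f : A ⟶ B) [Mono f] :
    Function.Injective (((constD Y).T 0).map f).hom := by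
  refine (injective_iff_map_eq_zero _).2 fun (x : HH Y ((cstF Y).obj A) 0) hx => ?_
  have h1 : HHmap ((cstF Y).map f) 0 x = 0 := hx
  obtain ⟨x, rfl⟩ := (Ext.mk₀_bijective _ _).2 x
  rw [HHmap_apply, Ext.mk₀_comp_mk₀] at h1
  have h2 : x ≫ (cstF Y).map f = 0 := (Ext.mk₀_eq_zero_iff _).1 h1
  have : Mono ((cstF Y).map f) := inferInstance
  rw [zero_of_comp_mono _ h2, Ext.mk₀_zero]
  rfl

section pow

variable {X Y : Scheme.{u}} (g : X ⟶ Y)

theorem inj_iff (n : ℕ) (M : Type) [AddCommGroup M] :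
    Inj (hcD g) n (AddCommGrpCat.of (ULift.{u + 1} M)) ↔ Function.Injective (HC M g n) := Iff.rfl

theorem surj_iff (n : ℕ) (M : Type) [AddCommGroup M] :
    Surj (hcD g) n (AddCommGrpCat.of (ULift.{u + 1} M)) ↔ Function.Surjective (HC M g n) := Iff.rfl

/-- `HC` depends only on the group. -/
theorem bijective_congr {M N : Type} [AddCommGroup M] [AddCommGroup N] (e : M ≃+ N) (q : ℕ) :
    Function.Bijective (HC M g q) → Function.Bijective (HC N g q) := by
  intro h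
  have hY : ∀ (Y : Scheme.{u}), Function.Bijective
      (HHmap (X := Y) ((cstF Y).map (up e.toAddMonoidHom)) q) := fun Y => by
    have : IsIso (up.{u + 1} e.toAddMonoidHom) := ⟨up e.symm.toAddMonoidHom, by
      rw [← up_comp, ← up_id]; congr 1; ext x; simp, by
      rw [← up_comp, ← up_id]; congr 1; ext x; simp⟩
    exact HHmap_bijective _ q
  have h1 : (HC N g q) ∘ (HHmap ((cstF Y).map (up e.toAddMonoidHom)) q) =
      (HHmap ((cstF X).map (up e.toAddMonoidHom)) q) ∘ (HC M g q) :=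
    funext fun x => HC_map g q e.toAddMonoidHom x
  have h2 := (hY X).comp h
  rw [← h1] at h2
  exact (Function.Bijective.of_comp_iff _ (hY Y)).1 h2

theorem injective_congr {M N : Type} [AddCommGroup M] [AddCommGroup N] (e : M ≃+ N) (q : ℕ) :
    Function.Injective (HC M g q) → Function.Injective (HC N g q) := by
  intro h
  have hY : ∀ (Y : Scheme.{u}), Function.Bijective
      (HHmap (X := Y) ((cstF Y).map (up e.toAddMonoidHom)) q) := fun Y => by
    have : IsIso (up.{u + 1} e.toAddMonoidHom) := ⟨up e.symm.toAddMonoidHom, by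
      rw [← up_comp, ← up_id]; congr 1; ext x; simp, by
      rw [← up_comp, ← up_id]; congr 1; ext x; simp⟩
    exact HHmap_bijective _ q
  have h1 : (HC N g q) ∘ (HHmap ((cstF Y).map (up e.toAddMonoidHom)) q) =
      (HHmap ((cstF X).map (up e.toAddMonoidHom)) q) ∘ (HC M g q) :=
    funext fun x => HC_map g q e.toAddMonoidHom x
  have h2 := (hY X).1.comp h
  rw [← h1] at h2
  exact (Function.Injective.of_comp_iff' _ (hY Y)).1 h2

/-- The cohomology of a trivial group is trivial. -/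
theorem subsingleton_HH (Y : Scheme.{u}) (M : Type) [AddCommGroup M] [Subsingleton M] (q : ℕ) :
    Subsingleton (HH Y (EtCoh.const Y M) q) := by
  have h : IsZero (EtCoh.const Y M) :=
    (cstF Y).map_isZero (AddCommGrpCat.isZero_of_subsingleton _)
  refine ⟨fun x y => ?_⟩
  have h0 : ∀ z : HH Y (EtCoh.const Y M) q, z = 0 := fun z => by
    have h1 : z = z.comp (Ext.mk₀ (𝟙 (EtCoh.const Y M))) (add_zero q) := (Ext.comp_mk₀_id z).symm
    rw [h1, h.eq_of_src (𝟙 (EtCoh.const Y M)) 0, Ext.mk₀_zero, Ext.comp_zero]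
  rw [h0 x, h0 y]

theorem pow_aux {ℓ : ℕ} (hℓ : ℓ ≠ 0) (m : ℕ)
    (h : ∀ q ≤ m, Function.Bijective (HC (ZMod ℓ) g q)) (h' : Function.Injective (HC (ZMod ℓ) g (m + 1)))
    (ν : ℕ) : (∀ q ≤ m, Function.Bijective (HC (ZMod (ℓ ^ ν)) g q)) ∧
      Function.Injective (HC (ZMod (ℓ ^ ν)) g (m + 1)) := by
  induction ν with
  | zero =>
    have : Subsingleton (ZMod (ℓ ^ 0)) := by
      rw [pow_zero]
      infer_instance
    have h1 : ∀ q, Function.Bijective (HC (ZMod (ℓ ^ 0)) g q) := fun q => by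
      have i1 := subsingleton_HH X (ZMod (ℓ ^ 0)) q
      have i2 := subsingleton_HH Y (ZMod (ℓ ^ 0)) q
      exact ⟨fun _ _ _ => Subsingleton.elim _ _, fun y => ⟨0, Subsingleton.elim _ _⟩⟩
    exact ⟨fun q _ => h1 q, (h1 _).1⟩
  | succ ν ih =>
    have e1 : ZMod ℓ ≃+ ZMod (ℓ ^ 1) := (ZMod.ringEquivCongr (pow_one ℓ).symm).toAddEquiv
    have hb1 : ∀ q ≤ m, Function.Bijective (HC (ZMod (ℓ ^ 1)) g q) := fun q hq =>
      bijective_congr g e1 q (h q hq)
    have hi1 : Function.Injective (HC (ZMod (ℓ ^ 1)) g (m + 1)) := injective_congr g e1 _ h'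
    have hi : ∀ q ≤ m + 1, Function.Injective (HC (ZMod (ℓ ^ 1)) g q) := fun q hq => by
      rcases Nat.lt_succ_iff_lt_or_eq.1 (Nat.lt_succ_of_le hq) with hq | rfl
      · exact (hb1 q (Nat.lt_succ_iff.1 hq)).1
      · exact hi1
    have hiν : ∀ q ≤ m + 1, Function.Injective (HC (ZMod (ℓ ^ ν)) g q) := fun q hq => by
      rcases Nat.lt_succ_iff_lt_or_eq.1 (Nat.lt_succ_of_le hq) with hq | rfl
      · exact (ih.1 q (Nat.lt_succ_iff.1 hq)).1
      · exact ih.2
    have hS := ses_shortExact.{u + 1} hℓ 1 ν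
    have hm : Mono (ses.{u + 1} ℓ 1 ν).f := hS.mono_f
    have hinj : ∀ q ≤ m + 1, Inj (hcD g) q (ses.{u + 1} ℓ 1 ν).X₂ := by
      intro q hq
      cases q with
      | zero => exact inj_mid_zero (hcD g) hS (hi 0 hq) (hiν 0 hq) (injective_map_zero X _)
      | succ q => exact inj_mid_succ (hcD g) hS q (ih.1 q (by omega)).2 (hi _ hq) (hiν _ hq)
    have hsurj : ∀ q ≤ m, Surj (hcD g) q (ses.{u + 1} ℓ 1 ν).X₂ := fun q hq =>
      surj_mid (hcD g) hS q (hb1 q hq).2 (ih.1 q hq).2 (hi _ (by omega))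
    have e2 : ZMod (ℓ ^ (1 + ν)) ≃+ ZMod (ℓ ^ (ν + 1)) :=
      (ZMod.ringEquivCongr (by rw [add_comm])).toAddEquiv
    exact ⟨fun q hq => bijective_congr g e2 q ⟨hinj q (by omega), hsurj q hq⟩,
      injective_congr g e2 _ (hinj _ le_rfl)⟩

/-- Dévissage in degrees `≤ m`. -/
theorem bijective_pow_of_le {ℓ : ℕ} (hℓ : ℓ ≠ 0) (m : ℕ)
    (h : ∀ q ≤ m + 1, Function.Bijective (HC (ZMod ℓ) g q)) (ν q : ℕ) (hq : q ≤ m) :
    Function.Bijective (HC (ZMod (ℓ ^ ν)) g q) :=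
  (pow_aux g hℓ m (fun q hq => h q (by omega)) (h _ le_rfl).1 ν).1 q hq

/-- Dévissage in all degrees. -/
theorem bijective_pow {ℓ : ℕ} (hℓ : ℓ ≠ 0) (h : ∀ q, Function.Bijective (HC (ZMod ℓ) g q)) (ν q : ℕ) :
    Function.Bijective (HC (ZMod (ℓ ^ ν)) g q) :=
  bijective_pow_of_le g hℓ q (fun q _ => h q) ν q le_rfl

end pow

open Groth.Agent.Sga7.H754.SCDef in
/-- `SC` for `ℤ/ℓ` implies `SC` for `ℤ/ℓ^ν`. -/
theorem SC.pow {X Y : Scheme.{u}} {f : X ⟶ Y} {ℓ : ℕ} (hℓ : ℓ ≠ 0) {m : ℕ}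
    (h : SC (ZMod ℓ) f (m + 1)) (ν : ℕ) : SC (ZMod (ℓ ^ ν)) f m := by
  intro T Ω _ _ _ _ _ a t t' w q hq
  exact bijective_pow_of_le _ hℓ m (fun q hq => h T Ω a t t' w q hq) ν q hq

end Groth.Agent.Sga7.H25.SCDev
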