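import Groth.Agent.Sga7.H25.CohActEq

/-!
# Calculus of the Galois action on the cohomology of the geometric fibre

`SGA7.cohAct Ω f σ M q` is the pullback map `HC M (SGA7.twistAut Ω f σ) q` on the cohomology of constant
sheaves.  Here: multiplicativity, and functoriality for a morphism of data
`(K, Ω, f, σ) → (K', Ω', f', σ')`.
-/

set_option autoImplicit false
universe u
open CategoryTheory CategoryTheory.Limits AlgebraicGeometry Opposite Abelian
open scoped Groth.Agent.Etcore.EtInst Groth.Agent.Etcore.HC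
open Groth.Agent.Etcore.EtInst Groth.Agent.Etcore.HpullCalc Groth.Agent.Etcore.HC

namespace Groth.Agent.Sga7.H25.CohAct

section Basic

variable {K : Type u} [Field K] {Ω : Type u} [Field Ω] [Algebra K Ω]
  {X : Scheme.{u}} (f : X ⟶ Spec (CommRingCat.of K))

theorem twistAut_fst (σ : Ω ≃ₐ[K] Ω) :
    SGA7.twistAut Ω f σ ≫ pullback.fst f (Spec.map (CommRingCat.ofHom (algebraMap K Ω))) =
      pullback.fst f (Spec.map (CommRingCat.ofHom (algebraMap K Ω))) := by
  simp only [SGA7.twistAut, pullback.map, pullback.lift_fst, Category.comp_id]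

theorem twistAut_snd (σ : Ω ≃ₐ[K] Ω) :
    SGA7.twistAut Ω f σ ≫ pullback.snd f (Spec.map (CommRingCat.ofHom (algebraMap K Ω))) =
      pullback.snd f (Spec.map (CommRingCat.ofHom (algebraMap K Ω))) ≫
        Spec.map (CommRingCat.ofHom (σ : Ω →+* Ω)) := by
  simp only [SGA7.twistAut, pullback.map, pullback.lift_snd]

theorem twistAut_one : SGA7.twistAut Ω f (1 : Ω ≃ₐ[K] Ω) = 𝟙 _ := by
  apply pullback.hom_ext
  · rw [twistAut_fst, Category.id_comp]
  · rw [twistAut_snd, Category.id_comp]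
    have : (CommRingCat.ofHom ((1 : Ω ≃ₐ[K] Ω) : Ω →+* Ω)) = 𝟙 _ := rfl
    rw [this, Spec.map_id]
    exact Category.comp_id _

theorem twistAut_mul (σ τ : Ω ≃ₐ[K] Ω) :
    SGA7.twistAut Ω f (σ * τ) = SGA7.twistAut Ω f σ ≫ SGA7.twistAut Ω f τ := by
  apply pullback.hom_ext
  · rw [twistAut_fst, Category.assoc, twistAut_fst, twistAut_fst]
  · rw [twistAut_snd, Category.assoc, twistAut_snd, ← Category.assoc, twistAut_snd, Category.assoc,
      ← Spec.map_comp]
    rfl

variable (M : Type) [AddCommGroup M] (q : ℕ)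

theorem HC_congr {X Y : Scheme.{u}} {f g : X ⟶ Y} (h : f = g) : HC M f q = HC M g q := by
  rw [h]

/-- The identity acts trivially. -/
theorem cohAct_one [PreservesFiniteLimits (EtCoh.pull (SGA7.twistAut Ω f (1 : Ω ≃ₐ[K] Ω)))] :
    SGA7.cohAct Ω f (1 : Ω ≃ₐ[K] Ω) M q = 1 := by
  rw [CohActEq.cohAct_eq, HC_congr M q (twistAut_one f)]
  exact AddMonoidHom.ext fun x => HC_id M q x

/-- Multiplicativity of the action. -/
theorem cohAct_mul (σ τ : Ω ≃ₐ[K] Ω) [PreservesFiniteLimits (EtCoh.pull (SGA7.twistAut Ω f σ))]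
    [PreservesFiniteLimits (EtCoh.pull (SGA7.twistAut Ω f τ))]
    [PreservesFiniteLimits (EtCoh.pull (SGA7.twistAut Ω f (σ * τ)))] :
    SGA7.cohAct Ω f (σ * τ) M q = SGA7.cohAct Ω f σ M q * SGA7.cohAct Ω f τ M q := by
  rw [CohActEq.cohAct_eq, CohActEq.cohAct_eq, CohActEq.cohAct_eq, HC_congr M q (twistAut_mul f σ τ)]
  exact AddMonoidHom.ext fun x => HC_comp M (SGA7.twistAut Ω f σ) (SGA7.twistAut Ω f τ) q x

theorem cohAct_pow [∀ σ : Ω ≃ₐ[K] Ω, PreservesFiniteLimits (EtCoh.pull (SGA7.twistAut Ω f σ))]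
    (σ : Ω ≃ₐ[K] Ω) (n : ℕ) :
    SGA7.cohAct Ω f (σ ^ n) M q = SGA7.cohAct Ω f σ M q ^ n := by
  induction n with
  | zero => rw [pow_zero, pow_zero, cohAct_one]
  | succ n ih => rw [pow_succ, pow_succ, cohAct_mul, ih]

end Basic

section Functoriality

variable {K : Type u} [Field K] {Ω : Type u} [Field Ω] [Algebra K Ω]
  {X : Scheme.{u}} (f : X ⟶ Spec (CommRingCat.of K))
  {K' : Type u} [Field K'] {Ω' : Type u} [Field Ω'] [Algebra K' Ω']
  {X' : Scheme.{u}} (f' : X' ⟶ Spec (CommRingCat.of K'))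
  (φ : K →+* K') (ι : Ω →+* Ω') (hι : ∀ x : K, ι (algebraMap K Ω x) = algebraMap K' Ω' (φ x))
  (p : X' ⟶ X) (hp : IsPullback p f' f (Spec.map (CommRingCat.ofHom φ)))

/-- The map of geometric fibres. -/
noncomputable def bcMap (hι : ∀ x : K, ι (algebraMap K Ω x) = algebraMap K' Ω' (φ x))
    (hp : IsPullback p f' f (Spec.map (CommRingCat.ofHom φ))) :
    SGA7.bcField Ω' f' ⟶ SGA7.bcField Ω f :=
  pullback.map _ _ _ _ p (Spec.map (CommRingCat.ofHom ι)) (Spec.map (CommRingCat.ofHom φ)) hp.w.symm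
    (by
      rw [← Spec.map_comp, ← Spec.map_comp, ← CommRingCat.ofHom_comp, ← CommRingCat.ofHom_comp]
      congr 2
      exact RingHom.ext fun x => (hι x).symm)

theorem bcMap_fst : bcMap f f' φ ι p hι hp ≫ pullback.fst _ _ = pullback.fst _ _ ≫ p := by
  rw [bcMap, pullback.map, pullback.lift_fst]

theorem bcMap_snd : bcMap f f' φ ι p hι hp ≫ pullback.snd _ _ =
    pullback.snd _ _ ≫ Spec.map (CommRingCat.ofHom ι) := by
  rw [bcMap, pullback.map, pullback.lift_snd]

/-- The geometric fibre of `f'` is the base change of the geometric fibre of `f`. -/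
theorem isPullback_bcMap : IsPullback (bcMap f f' φ ι p hι hp) (pullback.snd _ _) (pullback.snd _ _)
    (Spec.map (CommRingCat.ofHom ι)) := by
  have h1 : IsPullback (pullback.fst f' (Spec.map (CommRingCat.ofHom (algebraMap K' Ω'))) ≫ p)
      (pullback.snd f' (Spec.map (CommRingCat.ofHom (algebraMap K' Ω')))) f
      (Spec.map (CommRingCat.ofHom (algebraMap K' Ω')) ≫ Spec.map (CommRingCat.ofHom φ)) :=
    (IsPullback.of_hasPullback f' (Spec.map (CommRingCat.ofHom (algebraMap K' Ω')))).paste_horiz hp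
  have h2 : IsPullback (pullback.fst f (Spec.map (CommRingCat.ofHom (algebraMap K Ω))))
      (pullback.snd f (Spec.map (CommRingCat.ofHom (algebraMap K Ω)))) f
      (Spec.map (CommRingCat.ofHom (algebraMap K Ω))) := IsPullback.of_hasPullback _ _
  have e : Spec.map (CommRingCat.ofHom (algebraMap K' Ω')) ≫ Spec.map (CommRingCat.ofHom φ) =
      Spec.map (CommRingCat.ofHom ι) ≫ Spec.map (CommRingCat.ofHom (algebraMap K Ω)) := by
    rw [← Spec.map_comp, ← Spec.map_comp, ← CommRingCat.ofHom_comp, ← CommRingCat.ofHom_comp]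
    congr 2
    exact RingHom.ext fun x => (hι x).symm
  refine IsPullback.of_right (t := h2) ?_ (bcMap_snd f f' φ ι hι p hp)
  rw [bcMap_fst, ← e]
  exact h1

/-- The actions are compatible. -/
theorem twistAut_bcMap (σ : Ω ≃ₐ[K] Ω) (σ' : Ω' ≃ₐ[K'] Ω') (hσ : ∀ y, σ' (ι y) = ι (σ y)) :
    SGA7.twistAut Ω' f' σ' ≫ bcMap f f' φ ι p hι hp = bcMap f f' φ ι p hι hp ≫ SGA7.twistAut Ω f σ := by
  apply pullback.hom_ext
  · rw [Category.assoc, Category.assoc, bcMap_fst, twistAut_fst, ← Category.assoc, twistAut_fst, bcMap_fst]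
  · have e : Spec.map (CommRingCat.ofHom (σ' : Ω' →+* Ω')) ≫ Spec.map (CommRingCat.ofHom ι) =
        Spec.map (CommRingCat.ofHom ι) ≫ Spec.map (CommRingCat.ofHom (σ : Ω →+* Ω)) := by
      rw [← Spec.map_comp, ← Spec.map_comp, ← CommRingCat.ofHom_comp, ← CommRingCat.ofHom_comp]
      congr 2
      exact RingHom.ext fun y => hσ y
    rw [Category.assoc, Category.assoc, bcMap_snd, twistAut_snd, ← Category.assoc, twistAut_snd,
      Category.assoc, e, ← Category.assoc, ← Category.assoc, bcMap_snd]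

variable (M : Type) [AddCommGroup M] (q : ℕ)

theorem HC_cohAct (σ : Ω ≃ₐ[K] Ω) (σ' : Ω' ≃ₐ[K'] Ω') (hσ : ∀ y, σ' (ι y) = ι (σ y))
    [PreservesFiniteLimits (EtCoh.pull (SGA7.twistAut Ω f σ))]
    [PreservesFiniteLimits (EtCoh.pull (SGA7.twistAut Ω' f' σ'))]
    (x : HH (SGA7.bcField Ω f) (EtCoh.const _ M) q) :
    HC M (bcMap f f' φ ι p hι hp) q (SGA7.cohAct Ω f σ M q x) =
      SGA7.cohAct Ω' f' σ' M q (HC M (bcMap f f' φ ι p hι hp) q x) := by
  rw [CohActEq.cohAct_eq, CohActEq.cohAct_eq]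
  refine (HC_comp M _ _ q x).symm.trans (Eq.trans ?_ (HC_comp M _ _ q x))
  rw [HC_congr M q (twistAut_bcMap f f' φ ι hι p hp σ σ' hσ)]

/-- If `ι` is an isomorphism, so is the map of geometric fibres. -/
theorem isIso_bcMap (hbij : Function.Bijective ι) : IsIso (bcMap f f' φ ι p hι hp) := by
  have : IsIso (CommRingCat.ofHom ι) := (ConcreteCategory.isIso_iff_bijective _).2 hbij
  have : IsIso (Spec.map (CommRingCat.ofHom ι)) := inferInstance
  exact (isPullback_bcMap f f' φ ι hι p hp).isIso_fst_of_isIso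

theorem bijective_HC_of_isIso {X Y : Scheme.{u}} (g : X ⟶ Y) [IsIso g] :
    Function.Bijective (HC M g q) :=
  (bijective_HC_iff M g q).2 (bijective_hp_of_isIso g _ q)

end Functoriality

end Groth.Agent.Sga7.H25.CohAct
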