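import Groth.Prelude.Def_SGA7I
import Groth.Agent.Etcore.HC

/-!
# `SGA7.cohAct` is the pullback map on the cohomology of constant sheaves

`SGA7.cohAct Ω f σ M q = HC M (SGA7.twistAut Ω f σ) q`.  (The kernel needs some seconds for this `rfl`; see
`Groth.Agent.Etcore.EtInst`.)
-/

set_option autoImplicit false
universe u
open CategoryTheory CategoryTheory.Limits AlgebraicGeometry Opposite Abelian
open scoped Groth.Agent.Etcore.EtInst Groth.Agent.Etcore.HC
open Groth.Agent.Etcore.EtInst Groth.Agent.Etcore.HpullCalc Groth.Agent.Etcore.HC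

namespace Groth.Agent.Sga7.H25.CohActEq

variable {K : Type u} [Field K] {Ω : Type u} [Field Ω] [Algebra K Ω]
  {X : Scheme.{u}} (f : X ⟶ Spec (CommRingCat.of K)) (M : Type) [AddCommGroup M] (q : ℕ)

/-- `cohAct` is the pullback map on the cohomology of constant sheaves. -/
theorem cohAct_eq (σ : Ω ≃ₐ[K] Ω) [PreservesFiniteLimits (EtCoh.pull (SGA7.twistAut Ω f σ))] :
    SGA7.cohAct Ω f σ M q = HC M (SGA7.twistAut Ω f σ) q := rfl

end Groth.Agent.Sga7.H25.CohActEq
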