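import Groth.Agent.Sga7.H25.CohAct

/-!
# Transfer of quasi-unipotence of the Galois action between fields
-/

set_option autoImplicit false
universe u
open CategoryTheory CategoryTheory.Limits AlgebraicGeometry Opposite Abelian
open scoped Groth.Agent.Etcore.EtInst Groth.Agent.Etcore.HC
open Groth.Agent.Etcore.EtInst Groth.Agent.Etcore.HpullCalc Groth.Agent.Etcore.HC

namespace Groth.Agent.Sga7.H25.Transfer

open CohAct

section Transfer

/-- Transfer of quasi-unipotence along an injective intertwiner. -/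
theorem pow_sub_one_pow_eq_zero {A B : Type*} [AddCommGroup A] [AddCommGroup B] (T : AddMonoid.End A)
    (T' : AddMonoid.End B) (j : A →+ B) (hj : Function.Injective j) (h : ∀ x, j (T x) = T' (j x))
    (N M : ℕ) (h0 : (T' ^ N - 1) ^ M = 0) : (T ^ N - 1) ^ M = 0 := by
  have h1 : ∀ (n : ℕ) (x : A), j ((T ^ n) x) = (T' ^ n) (j x) := by
    intro n
    induction n with
    | zero => intro x; rfl
    | succ n ih =>
      intro x
      rw [pow_succ, pow_succ]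
      exact (ih (T x)).trans (congrArg (fun y => (T' ^ n) y) (h x))
  have h2 : ∀ x, j ((T ^ N - 1) x) = (T' ^ N - 1) (j x) := by
    intro x
    change j ((T ^ N) x - x) = (T' ^ N) (j x) - j x
    rw [map_sub, h1]
  have h3 : ∀ (m : ℕ) (x : A), j (((T ^ N - 1) ^ m) x) = ((T' ^ N - 1) ^ m) (j x) := by
    intro m
    induction m with
    | zero => intro x; rfl
    | succ m ih =>
      intro x
      rw [pow_succ, pow_succ]
      exact (ih ((T ^ N - 1) x)).trans (congrArg (fun y => ((T' ^ N - 1) ^ m) y) (h2 x))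
  refine AddMonoidHom.ext fun x => hj ?_
  have h4 := h3 M x
  rw [h0] at h4
  exact h4.trans (map_zero j).symm

variable {K : Type u} [Field K] {Ω : Type u} [Field Ω] [Algebra K Ω]
  {X : Scheme.{u}} (f : X ⟶ Spec (CommRingCat.of K))
  {K' : Type u} [Field K'] {Ω' : Type u} [Field Ω'] [Algebra K' Ω']
  {X' : Scheme.{u}} (f' : X' ⟶ Spec (CommRingCat.of K'))
  (φ : K →+* K') (ι : Ω →+* Ω') (hι : ∀ x : K, ι (algebraMap K Ω x) = algebraMap K' Ω' (φ x))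
  (p : X' ⟶ X) (hp : IsPullback p f' f (Spec.map (CommRingCat.ofHom φ)))

theorem cohAct_pow_sub_one_pow_eq_zero (M₀ : Type) [AddCommGroup M₀] (q : ℕ)
    (σ : Ω ≃ₐ[K] Ω) (σ' : Ω' ≃ₐ[K'] Ω') (hσ : ∀ y, σ' (ι y) = ι (σ y))
    [PreservesFiniteLimits (EtCoh.pull (SGA7.twistAut Ω f σ))]
    [PreservesFiniteLimits (EtCoh.pull (SGA7.twistAut Ω' f' σ'))]
    (hinj : Function.Injective (HC M₀ (bcMap f f' φ ι p hι hp) q)) (N M : ℕ)
    (h0 : (SGA7.cohAct Ω' f' σ' M₀ q ^ N - 1) ^ M = 0) :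
    (SGA7.cohAct Ω f σ M₀ q ^ N - 1) ^ M = 0 :=
  pow_sub_one_pow_eq_zero (SGA7.cohAct Ω f σ M₀ q) (SGA7.cohAct Ω' f' σ' M₀ q)
    (HC M₀ (bcMap f f' φ ι p hι hp) q) hinj (HC_cohAct f f' φ ι hι p hp M₀ q σ σ' hσ) N M h0

include φ hι p hp in
/-- **Transfer to an intermediate field.**  If `σ ^ m` is induced by `σ' : Ω' ≃ₐ[K'] Ω'` and `ι : Ω → Ω'` is
bijective, quasi-unipotence of `σ'` implies that of `σ`. -/
theorem quasiUnipotent_of_pow (hbij : Function.Bijective ι) (ℓ i m : ℕ) (hm : 0 < m)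
    [∀ σ : Ω ≃ₐ[K] Ω, PreservesFiniteLimits (EtCoh.pull (SGA7.twistAut Ω f σ))]
    [∀ σ' : Ω' ≃ₐ[K'] Ω', PreservesFiniteLimits (EtCoh.pull (SGA7.twistAut Ω' f' σ'))]
    (σ : Ω ≃ₐ[K] Ω) (σ' : Ω' ≃ₐ[K'] Ω') (hσ : ∀ y, σ' (ι y) = ι ((σ ^ m) y))
    (h : ∃ N M : ℕ, 0 < N ∧ ∀ ν : ℕ, (SGA7.cohAct Ω' f' σ' (ZMod (ℓ ^ ν)) i ^ N - 1) ^ M = 0) :
    ∃ N M : ℕ, 0 < N ∧ ∀ ν : ℕ, (SGA7.cohAct Ω f σ (ZMod (ℓ ^ ν)) i ^ N - 1) ^ M = 0 := by
  obtain ⟨N, M, hN, h⟩ := h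
  have := isIso_bcMap f f' φ ι hι p hp hbij
  refine ⟨m * N, M, Nat.mul_pos hm hN, fun ν => ?_⟩
  rw [pow_mul, ← cohAct_pow]
  exact cohAct_pow_sub_one_pow_eq_zero f f' φ ι hι p hp (ZMod (ℓ ^ ν)) i (σ ^ m) σ' hσ
    (bijective_HC_of_isIso (ZMod (ℓ ^ ν)) i _).1 N M (h ν)

end Transfer

end Groth.Agent.Sga7.H25.Transfer
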