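import Groth.Agent.Sga7.H25.CohAct
import Mathlib.FieldTheory.KrullTopology
import Mathlib.Topology.Algebra.OpenSubgroup

/-!
# A finite extension killing the action on finitely many finite cohomology groups
-/

set_option autoImplicit false
universe u
open CategoryTheory CategoryTheory.Limits AlgebraicGeometry Opposite Abelian
open scoped Groth.Agent.Etcore.EtInst Groth.Agent.Etcore.HC
open Groth.Agent.Etcore.EtInst Groth.Agent.Etcore.HpullCalc Groth.Agent.Etcore.HC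

namespace Groth.Agent.Sga7.H25.FinAct

variable {K : Type u} [Field K] {Ω : Type u} [Field Ω] [Algebra K Ω]
  {X : Scheme.{u}} (f : X ⟶ Spec (CommRingCat.of K))

/-- If the classes in the finite groups `H^q(X_Ω, M)`, `q ≤ m`, have open stabilizers, a finite extension
of `K` acts trivially on these groups. -/
theorem exists_finite (M : Type) [AddCommGroup M] (m : ℕ)
    (hfin : ∀ q ≤ m, Finite (HH (SGA7.bcField Ω f) (EtCoh.const (SGA7.bcField Ω f) M) q))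
    (hstab : ∀ q ≤ m, ∀ x : HH (SGA7.bcField Ω f) (EtCoh.const (SGA7.bcField Ω f) M) q,
      ∃ U : OpenSubgroup (Ω ≃ₐ[K] Ω), ∀ σ ∈ U, HC M (SGA7.twistAut Ω f σ) q x = x) :
    ∃ L : IntermediateField K Ω, FiniteDimensional K L ∧ ∀ σ : Ω ≃ₐ[K] Ω, (∀ x ∈ L, σ x = x) →
      ∀ q ≤ m, ∀ x : HH (SGA7.bcField Ω f) (EtCoh.const (SGA7.bcField Ω f) M) q,
        HC M (SGA7.twistAut Ω f σ) q x = x := by
  have h1 : ∀ q ≤ m, {σ : Ω ≃ₐ[K] Ω | ∀ x : HH (SGA7.bcField Ω f) (EtCoh.const (SGA7.bcField Ω f) M) q,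
      HC M (SGA7.twistAut Ω f σ) q x = x} ∈ nhds (1 : Ω ≃ₐ[K] Ω) := by
    intro q hq
    have := hfin q hq
    choose U hU using hstab q hq
    have h2 : (⋂ x, (U x : Set (Ω ≃ₐ[K] Ω))) ∈ nhds (1 : Ω ≃ₐ[K] Ω) :=
      (Filter.iInter_mem).2 fun x => (U x).mem_nhds_one
    refine Filter.mem_of_superset h2 fun σ hσ x => hU x σ (Set.mem_iInter.1 hσ x)
  have h3 : (⋂ q ∈ Set.Iic m, {σ : Ω ≃ₐ[K] Ω | ∀ x : HH (SGA7.bcField Ω f)
      (EtCoh.const (SGA7.bcField Ω f) M) q, HC M (SGA7.twistAut Ω f σ) q x = x}) ∈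
      nhds (1 : Ω ≃ₐ[K] Ω) :=
    (Filter.biInter_mem (Set.finite_Iic m)).2 fun q hq => h1 q hq
  obtain ⟨L, hL, hLs⟩ := (krullTopology_mem_nhds_one_iff K Ω _).1 h3
  refine ⟨L, hL, fun σ hσ q hq => ?_⟩
  have h4 : σ ∈ (L.fixingSubgroup : Set (Ω ≃ₐ[K] Ω)) :=
    (IntermediateField.mem_fixingSubgroup_iff L σ).2 hσ
  exact Set.mem_iInter₂.1 (hLs h4) q hq

end Groth.Agent.Sga7.H25.FinAct
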