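import Groth.Agent.Etbc.H203.Newton
import Mathlib.RingTheory.DiscreteValuationRing.Basic
import Mathlib.RingTheory.Localization.Integral
import Mathlib.FieldTheory.Separable
import Mathlib.FieldTheory.Minpoly.IsIntegrallyClosed
import Mathlib.RingTheory.DiscreteValuationRing.TFAE
import Mathlib.RingTheory.PrincipalIdealDomain
import Mathlib.RingTheory.UniqueFactorizationDomain.GCDMonoid
import Mathlib.RingTheory.Polynomial.RationalRoot

/-!
# Algebraic closedness of a henselian discrete valuation ring in its completion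

`R → R'` discrete valuation rings, `R` henselian and dense in `R'`, a uniformizer of `R` going to a
uniformizer of `R'`.  An element of the fraction field of `R'` which is separable over the fraction field of `R`
lies in the fraction field of `R`.
-/

set_option autoImplicit false

universe u v w

open Polynomial

namespace Groth.Agent.Sga7.H25.HensMem

variable {R : Type u} [CommRing R] [IsDomain R] [IsDiscreteValuationRing R]
  {R' : Type v} [CommRing R'] [IsDomain R'] (φ : R →+* R')

/-- divisibility by powers of the uniformizer descends -/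
theorem dvd_of_dvd_map {ϖ : R} (hϖ : Irreducible ϖ) (hφϖ : Irreducible (φ ϖ)) {n : ℕ} {x : R}
    (h : φ ϖ ^ n ∣ φ x) : ϖ ^ n ∣ x := by
  rcases eq_or_ne x 0 with rfl | hx
  · exact dvd_zero _
  · obtain ⟨m, u, rfl⟩ := IsDiscreteValuationRing.eq_unit_mul_pow_irreducible hx hϖ
    rw [map_mul, map_pow] at h
    have hu : IsUnit (φ u) := u.isUnit.map φ
    rw [hu.dvd_mul_left] at h
    have hle : n ≤ m := (pow_dvd_pow_iff hφϖ.ne_zero hφϖ.not_isUnit).1 h
    exact Dvd.dvd.mul_left (pow_dvd_pow _ hle) _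

variable [IsDiscreteValuationRing R']

/-- A monic polynomial over a henselian `R` with a simple root in `R'` has a root in `R`. -/
theorem exists_root [HenselianLocalRing R] {ϖ : R} (hϖ : Irreducible ϖ) (hφϖ : Irreducible (φ ϖ))
    (hd : ∀ (z : R') (n : ℕ), ∃ (a : R) (t : R'), φ a = z + φ ϖ ^ n * t)
    (f : R[X]) (z : R') (hz : (f.map φ).eval z = 0) (hz' : (f.derivative.map φ).eval z ≠ 0) :
    ∃ r : R, f.eval r = 0 := by
  obtain ⟨e, u, he⟩ := IsDiscreteValuationRing.eq_unit_mul_pow_irreducible hz' hφϖ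
  obtain ⟨a, t, ha⟩ := hd z (2 * e + 1)
  -- the derivative
  have h1 : φ (f.derivative.eval a) = (u + φ ϖ ^ (e + 1) * (t * (taylor z (f.derivative.map φ)).divX.eval
      (φ ϖ ^ (2 * e + 1) * t))) * φ ϖ ^ e := by
    have h2 : φ (f.derivative.eval a) = (f.derivative.map φ).eval (φ a) :=
      by rw [Polynomial.eval_map, Polynomial.eval₂_at_apply]
    have h3 := congrArg (eval (φ ϖ ^ (2 * e + 1) * t)) (divX_mul_X_add (taylor z (f.derivative.map φ)))
    rw [taylor_coeff_zero, eval_add, eval_mul, eval_X, eval_C, taylor_eval, add_comm _ z, ← ha, he] at h3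
    rw [h2, ← h3]
    ring
  have hunit : IsUnit (u + φ ϖ ^ (e + 1) * (t * (taylor z (f.derivative.map φ)).divX.eval
      (φ ϖ ^ (2 * e + 1) * t))) := by
    by_contra hcon
    have h3 : (u : R') ∈ IsLocalRing.maximalIdeal R' := by
      have h4 := (IsLocalRing.mem_maximalIdeal _).2 hcon
      have h5 : φ ϖ ^ (e + 1) * (t * (taylor z (f.derivative.map φ)).divX.eval
          (φ ϖ ^ (2 * e + 1) * t)) ∈ IsLocalRing.maximalIdeal R' := by
        apply Ideal.mul_mem_right
        rw [pow_succ]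
        exact Ideal.mul_mem_left _ _ ((IsLocalRing.mem_maximalIdeal _).2 hφϖ.not_isUnit)
      have h6 := Ideal.sub_mem _ h4 h5
      rwa [add_sub_cancel_right] at h6
    exact (IsLocalRing.mem_maximalIdeal _).1 h3 u.isUnit
  have hder : f.derivative.eval a ≠ 0 := by
    intro h0
    rw [h0, map_zero] at h1
    exact (mul_ne_zero hunit.ne_zero (pow_ne_zero _ hφϖ.ne_zero)) h1.symm
  obtain ⟨m, v, hv⟩ := IsDiscreteValuationRing.eq_unit_mul_pow_irreducible hder hϖ
  have hme : m ≤ e := by
    have h2 : φ ϖ ^ m ∣ φ (f.derivative.eval a) := by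
      rw [hv, map_mul, map_pow]
      exact Dvd.intro_left _ rfl
    rw [h1, hunit.dvd_mul_left] at h2
    exact (pow_dvd_pow_iff hφϖ.ne_zero hφϖ.not_isUnit).1 h2
  -- the value
  have h4 : φ ϖ ^ (2 * e + 1) ∣ φ (f.eval a) := by
    have h2 : φ (f.eval a) = (f.map φ).eval (φ a) := by rw [Polynomial.eval_map, Polynomial.eval₂_at_apply]
    rw [h2, ha]
    have h3 := congrArg (eval (φ ϖ ^ (2 * e + 1) * t)) (divX_mul_X_add (taylor z (f.map φ)))
    rw [taylor_coeff_zero, eval_add, eval_mul, eval_X, eval_C, taylor_eval, add_comm _ z, hz, add_zero] at h3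
    rw [← h3]
    exact Dvd.dvd.mul_left (Dvd.intro _ rfl) _
  obtain ⟨c, hc⟩ := dvd_of_dvd_map φ hϖ hφϖ h4
  obtain ⟨b, hb, hfb⟩ : ∃ b ∈ IsLocalRing.maximalIdeal R, f.eval a = (f.derivative.eval a) ^ 2 * b := by
    refine ⟨ϖ * (ϖ ^ (2 * e - 2 * m) * (((v⁻¹ : Rˣ) : R) ^ 2 * c)), ?_, ?_⟩
    · exact Ideal.mul_mem_right _ _ ((IsLocalRing.mem_maximalIdeal _).2 hϖ.not_isUnit)
    · rw [hc, hv]
      have h5 : ϖ ^ (2 * e + 1) = ϖ ^ (2 * m) * (ϖ ^ (2 * e - 2 * m) * ϖ) := by
        rw [← mul_assoc, ← pow_add, ← pow_succ]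
        congr 1
        omega
      have h6 : (v : R) * ((v⁻¹ : Rˣ) : R) = 1 := v.mul_inv
      rw [h5]
      linear_combination (-(ϖ ^ (2 * m) * ϖ ^ (2 * e - 2 * m) * ϖ * c) *
        ((v : R) * ((v⁻¹ : Rˣ) : R) + 1)) * h6
  obtain ⟨t', -, ht'⟩ := Groth.Agent.Etbc.H203.Newton.exists_root_of_sq f a b hb hfb
  exact ⟨_, ht'⟩

section Fields

variable [HenselianLocalRing R] {K : Type u} [Field K] [Algebra R K] [IsFractionRing R K]
  {K' : Type v} [Field K'] [Algebra R' K'] [IsFractionRing R' K']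
  {Ω : Type u} [Field Ω] [Algebra K Ω] [Algebra.IsSeparable K Ω]
  {Ω' : Type w} [Field Ω'] [Algebra K' Ω']

/-- Elements of `Ω` which lie in `R'` lie in `K`. -/
theorem exists_eq_of_integer {ϖ : R} (hϖ : Irreducible ϖ) (hφϖ : Irreducible (φ ϖ))
    (hd : ∀ (z : R') (n : ℕ), ∃ (a : R) (t : R'), φ a = z + φ ϖ ^ n * t)
    (ι : Ω →+* Ω') (hι : ∀ x : R, ι (algebraMap K Ω (algebraMap R K x)) =
      algebraMap K' Ω' (algebraMap R' K' (φ x)))
    (y : Ω) (z : R') (h : ι y = algebraMap K' Ω' (algebraMap R' K' z)) :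
    ∃ x : K, algebraMap K Ω x = y := by
  let _ : Algebra R Ω := ((algebraMap K Ω).comp (algebraMap R K)).toAlgebra
  have : IsScalarTower R K Ω := IsScalarTower.of_algebraMap_eq fun r => rfl
  have halg : IsAlgebraic R y := (IsFractionRing.isAlgebraic_iff R K Ω).2
    (Algebra.IsSeparable.isIntegral K y).isAlgebraic
  obtain ⟨c, hc, hint⟩ := halg.exists_integral_multiple
  have hw : c • y = algebraMap K Ω (algebraMap R K c) * y := Algebra.smul_def _ _
  have hmin : minpoly K (c • y) = (minpoly R (c • y)).map (algebraMap R K) :=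
    minpoly.isIntegrallyClosed_eq_field_fractions' K hint
  let j : R' →+* Ω' := (algebraMap K' Ω').comp (algebraMap R' K')
  have hj : Function.Injective j := (algebraMap K' Ω').injective.comp (IsFractionRing.injective R' K')
  have hιw : ι (c • y) = j (φ c * z) := by
    rw [hw, map_mul, hι, h, ← map_mul, ← map_mul]
    rfl
  have heval : ∀ g : R[X], j ((g.map φ).eval (φ c * z)) = ι (aeval (c • y) g) := by
    intro g
    rw [Polynomial.eval_map, Polynomial.hom_eval₂, ← hιw, Polynomial.aeval_def, Polynomial.hom_eval₂]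
    congr 1
    ext x
    exact (hι x).symm
  have h0 : ((minpoly R (c • y)).map φ).eval (φ c * z) = 0 := by
    apply hj
    rw [heval, minpoly.aeval, map_zero, map_zero]
  have h1 : ((minpoly R (c • y)).derivative.map φ).eval (φ c * z) ≠ 0 := by
    intro h2
    have h3 := heval (minpoly R (c • y)).derivative
    rw [h2, map_zero] at h3
    have h4 : aeval (c • y) (minpoly R (c • y)).derivative = 0 := ι.injective (h3.symm.trans (map_zero ι).symm)
    have h5 : (minpoly K (c • y)).Separable := Algebra.IsSeparable.isSeparable K (c • y)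
    have h6 := h5.aeval_derivative_ne_zero (minpoly.aeval K (c • y))
    rw [hmin, derivative_map, aeval_map_algebraMap] at h6
    exact h6 h4
  obtain ⟨r, hr⟩ := exists_root φ hϖ hφϖ hd _ _ h0 h1
  have hroot : (minpoly K (c • y)).IsRoot (algebraMap R K r) := by
    rw [hmin, IsRoot.def, Polynomial.eval_map, Polynomial.eval₂_at_apply, hr, map_zero]
  have hdeg := Polynomial.degree_eq_one_of_irreducible_of_root
    (minpoly.irreducible (Algebra.IsSeparable.isIntegral K (c • y))) hroot
  obtain ⟨x, hx⟩ := minpoly.mem_range_of_degree_eq_one K (c • y) hdeg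
  have hcK : algebraMap R K c ≠ 0 := (map_ne_zero_iff _ (IsFractionRing.injective R K)).2 hc
  refine ⟨x / algebraMap R K c, ?_⟩
  rw [map_div₀, hx, hw, mul_div_cancel_left₀]
  exact (_root_.map_ne_zero _).2 hcK

/-- **The separable closure of `K` meets the completion in `K` only.** -/
theorem exists_eq {ϖ : R} (hϖ : Irreducible ϖ) (hφϖ : Irreducible (φ ϖ))
    (hd : ∀ (z : R') (n : ℕ), ∃ (a : R) (t : R'), φ a = z + φ ϖ ^ n * t)
    (ι : Ω →+* Ω') (hι : ∀ x : R, ι (algebraMap K Ω (algebraMap R K x)) =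
      algebraMap K' Ω' (algebraMap R' K' (φ x)))
    (y : Ω) (z : K') (h : ι y = algebraMap K' Ω' z) :
    ∃ x : K, algebraMap K Ω x = y := by
  rcases ValuationRing.isInteger_or_isInteger R' z with ⟨z', hz⟩ | ⟨z', hz⟩
  · exact exists_eq_of_integer φ hϖ hφϖ hd ι hι y z' (by rw [h, hz])
  · obtain ⟨x, hx⟩ := exists_eq_of_integer φ hϖ hφϖ hd ι hι y⁻¹ z' (by rw [map_inv₀, h, hz, map_inv₀])
    exact ⟨x⁻¹, by rw [map_inv₀, hx, inv_inv]⟩

end Fields

end Groth.Agent.Sga7.H25.HensMem
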