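import Mathlib.FieldTheory.LinearDisjoint
import Mathlib.FieldTheory.IsSepClosed

/-!
# Lifting automorphisms of a separable closure to a larger field

`K → K'` an extension of fields, `Ω/K`, `Ω'/K'` separable closures, `ι : Ω → Ω'` over `K → K'`.  If the only
elements of `Ω` which lie in `K'` are those of `K`, every automorphism of `Ω` over `K` lifts to an
automorphism of `Ω'` over `K'`.
-/

set_option autoImplicit false

universe u v w

open Polynomial TensorProduct

namespace Groth.Agent.Sga7.H25.LiftGal

section Minpoly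

variable {K K' E : Type*} [Field K] [Field K'] [Field E] [Algebra K K'] [Algebra K' E] [Algebra K E]
  [IsScalarTower K K' E]

/-- If the normal subextension `A` of `E/K` meets `K'` in `K` only, minimal polynomials of elements of `A`
over `K'` are those over `K`. -/
theorem minpoly_eq (A : IntermediateField K E) [Normal K A]
    (h : ∀ z : K', algebraMap K' E z ∈ A → z ∈ (algebraMap K K').range) (x : E) (hx : x ∈ A) :
    minpoly K' x = (minpoly K x).map (algebraMap K K') := by
  have hxA : IsIntegral K (⟨x, hx⟩ : A) := Algebra.IsIntegral.isIntegral _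
  have hxint : IsIntegral K x := hxA.map A.val
  have hxint' : IsIntegral K' x := hxint.tower_top
  have hP : minpoly K x = minpoly K (⟨x, hx⟩ : A) := (minpoly.algHom_eq A.val A.val.injective (⟨x, hx⟩ : A))
  have hsplit : ((minpoly K x).map (algebraMap K A)).Splits := by
    rw [hP]
    exact Normal.splits ‹_› _
  have hdvd : (minpoly K' x).map (algebraMap K' E) ∣ (minpoly K x).map (algebraMap K E) := by
    rw [IsScalarTower.algebraMap_eq K K' E, ← Polynomial.map_map]
    exact Polynomial.map_dvd _ (minpoly.dvd_map_of_isScalarTower K K' x)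
  have h0 : (minpoly K x).map (algebraMap K E) ≠ 0 :=
    (Polynomial.map_ne_zero_iff (algebraMap K E).injective).2 (minpoly.ne_zero hxint)
  have hsplitE : ((minpoly K x).map (algebraMap K E)).Splits := by
    have : algebraMap K E = (algebraMap A E).comp (algebraMap K A) := rfl
    rw [this, ← Polynomial.map_map]
    exact hsplit.map _
  have hroots : ∀ a ∈ ((minpoly K x).map (algebraMap K E)).roots, a ∈ (algebraMap A E).range := by
    intro a ha
    have : algebraMap K E = (algebraMap A E).comp (algebraMap K A) := rfl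
    rw [this, ← Polynomial.map_map, Splits.roots_map hsplit] at ha
    obtain ⟨b, -, rfl⟩ := Multiset.mem_map.1 ha
    exact ⟨b, rfl⟩
  have hQs : ((minpoly K' x).map (algebraMap K' E)).Splits := hsplitE.of_dvd h0 hdvd
  have hQm : ((minpoly K' x).map (algebraMap K' E)).Monic := (minpoly.monic hxint').map _
  have hlift := hQs.mem_lift_of_roots_mem_range hQm (algebraMap A E) (fun a ha =>
    hroots a (Multiset.mem_of_le (Polynomial.roots.le_of_dvd h0 hdvd) ha))
  have hQ : minpoly K' x ∈ Polynomial.lifts (algebraMap K K') := by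
    rw [Polynomial.lifts_iff_coeff_lifts] at hlift ⊢
    intro n
    obtain ⟨a, ha⟩ := hlift n
    rw [Polynomial.coeff_map] at ha
    apply h
    rw [← ha]
    exact a.2
  obtain ⟨R, hR, hRd, hRm⟩ := Polynomial.lifts_and_natDegree_eq_and_monic hQ (minpoly.monic hxint')
  have h1 : minpoly K x ∣ R := by
    apply minpoly.dvd
    rw [← Polynomial.aeval_map_algebraMap K', hR, minpoly.aeval]
  apply Polynomial.eq_of_monic_of_associated (minpoly.monic hxint') ((minpoly.monic hxint).map _)
  apply associated_of_dvd_dvd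
  · exact minpoly.dvd_map_of_isScalarTower K K' x
  · rw [← hR]
    exact Polynomial.map_dvd _ h1

/-- Then `A` and `K'` are linearly disjoint over `K` (`A/K` separable). -/
theorem linearDisjoint (A : IntermediateField K E) [Normal K A] [Algebra.IsSeparable K A]
    (h : ∀ z : K', algebraMap K' E z ∈ A → z ∈ (algebraMap K K').range) :
    A.LinearDisjoint K' := by
  rw [IntermediateField.linearDisjoint_iff]
  have : Algebra.IsIntegral K A.toSubalgebra := inferInstanceAs (Algebra.IsIntegral K A)
  refine Subalgebra.LinearDisjoint.of_linearDisjoint_finite_left _ _ fun A' hA' hfin => ?_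
  have halg : Algebra.IsAlgebraic K A' := inferInstance
  let B : IntermediateField K E := Subalgebra.IsAlgebraic.toIntermediateField (S := A')
    ((Subalgebra.isAlgebraic_iff A').2 halg)
  have hBA : B ≤ A := hA'
  have hBfin : FiniteDimensional K B := hfin
  have hBsep : Algebra.IsSeparable K B :=
    Algebra.IsSeparable.of_algHom K A (IntermediateField.inclusion hBA)
  obtain ⟨x, hx⟩ := Field.exists_primitive_element K B
  have hBx : B = IntermediateField.adjoin K {(x : E)} := by
    have h1 := congrArg (IntermediateField.map B.val) hx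
    rw [IntermediateField.adjoin_map, Set.image_singleton, ← AlgHom.fieldRange_eq_map] at h1
    rw [IntermediateField.fieldRange_val] at h1
    exact h1.symm
  have key : B.LinearDisjoint K' := by
    have hxint : IsIntegral K (x : E) := (Algebra.IsIntegral.isIntegral (R := K) x).map B.val
    rw [hBx]
    refine IntermediateField.LinearDisjoint.of_basis_left
      (IntermediateField.adjoin.powerBasis hxint).basis ?_
    have h2 : ((IntermediateField.adjoin K {(x : E)}).val ∘
        (IntermediateField.adjoin.powerBasis hxint).basis : _ → E) =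
        fun i : Fin (IntermediateField.adjoin.powerBasis hxint).dim => (x : E) ^ (i : ℕ) := by
      funext i
      simp
    rw [h2]
    have h3 := linearIndependent_pow (K := K') (x : E)
    have hd : (minpoly K' (x : E)).natDegree = (minpoly K (x : E)).natDegree := by
      rw [minpoly_eq A h x (hBA x.2), natDegree_map]
    have h4 : (IntermediateField.adjoin.powerBasis hxint).dim = (minpoly K' (x : E)).natDegree := by
      rw [hd]; rfl
    rw [h4]
    exact h3
  exact (IntermediateField.linearDisjoint_iff _ _).1 key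

end Minpoly

section Lift

/-- A ring homomorphism from a field `E` to a separably closed field `M` extends to a separable extension
`L` of `E`. -/
theorem exists_extend {E : Type u} {L : Type v} {M : Type w} [Field E] [Field L] [Field M] [IsSepClosed M]
    (a : E →+* L) (ha : ∀ x : L, @IsSeparable E L _ _ a.toAlgebra x) (b : E →+* M) :
    ∃ s : L →+* M, ∀ x, s (a x) = b x := by
  let _ : Algebra E L := a.toAlgebra
  let _ : Algebra E M := b.toAlgebra
  have : Algebra.IsSeparable E L := ⟨ha⟩
  exact ⟨(IsSepClosed.lift : L →ₐ[E] M).toRingHom, fun x => (IsSepClosed.lift : L →ₐ[E] M).commutes x⟩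

variable {K : Type u} {K' : Type v} {Ω : Type u} {Ω' : Type v} [Field K] [Field K'] [Field Ω] [Field Ω']
  [Algebra K Ω] [IsSepClosure K Ω] [Algebra K' Ω'] [IsSepClosure K' Ω']

/-- **Lifting of automorphisms of separable closures.** -/
theorem exists_lift (φ : K →+* K') (ι : Ω →+* Ω')
    (hι : ∀ x : K, ι (algebraMap K Ω x) = algebraMap K' Ω' (φ x))
    (h : ∀ (y : Ω) (z : K'), ι y = algebraMap K' Ω' z → ∃ x : K, algebraMap K Ω x = y)
    (σ : Ω ≃ₐ[K] Ω) : ∃ σ' : Ω' ≃ₐ[K'] Ω', ∀ y : Ω, σ' (ι y) = ι (σ y) := by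
  let _ : Algebra K K' := φ.toAlgebra
  let _ : Algebra K Ω' := ((algebraMap K' Ω').comp φ).toAlgebra
  have : IsScalarTower K K' Ω' := IsScalarTower.of_algebraMap_eq fun _ => rfl
  have hsep : Algebra.IsSeparable K Ω := IsSepClosure.separable
  have hsep' : Algebra.IsSeparable K' Ω' := IsSepClosure.separable
  have : IsSepClosed Ω' := IsSepClosure.sep_closed K'
  have : IsSepClosed Ω := IsSepClosure.sep_closed K
  have : IsGalois K Ω := inferInstance
  let ιa : Ω →ₐ[K] Ω' := { ι with commutes' := fun x => hι x }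
  let A : IntermediateField K Ω' := ιa.fieldRange
  have eA : Ω ≃ₐ[K] A := AlgEquiv.ofInjectiveField ιa
  have : Normal K A := Normal.of_algEquiv eA
  have : Algebra.IsSeparable K A := Algebra.IsSeparable.of_algHom K Ω eA.symm.toAlgHom
  have hA : A.LinearDisjoint K' := by
    apply linearDisjoint
    intro z hz
    obtain ⟨y, hy⟩ := hz
    obtain ⟨x, rfl⟩ := h y z hy
    refine ⟨x, (algebraMap K' Ω').injective ?_⟩
    rw [← hy]
    exact (hι x).symm
  -- the tensor product is a field
  have hF : IsField (Ω ⊗[K] K') :=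
    (Algebra.TensorProduct.congr eA (AlgEquiv.refl : K' ≃ₐ[K] K')).toMulEquiv.isField
      (hA.isField_of_isAlgebraic (Or.inl inferInstance))
  let _ : Field (Ω ⊗[K] K') := hF.toField
  let g₁ : Ω ⊗[K] K' →ₐ[K] Ω' := Algebra.TensorProduct.productMap ιa (IsScalarTower.toAlgHom K K' Ω')
  let g₂ : Ω ⊗[K] K' →ₐ[K] Ω' :=
    Algebra.TensorProduct.productMap (ιa.comp (σ : Ω →ₐ[K] Ω)) (IsScalarTower.toAlgHom K K' Ω')
  have hg₁ : ∀ (y : Ω), g₁ (y ⊗ₜ 1) = ι y := fun y => by
    change g₁ (y ⊗ₜ 1) = ιa y
    simp [g₁]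
  have hg₁' : ∀ (z : K'), g₁ (1 ⊗ₜ z) = algebraMap K' Ω' z := fun z => by
    simp [g₁]
  have hg₂ : ∀ (y : Ω), g₂ (y ⊗ₜ 1) = ι (σ y) := fun y => by
    change g₂ (y ⊗ₜ 1) = ιa (σ y)
    simp [g₂]
  have hg₂' : ∀ (z : K'), g₂ (1 ⊗ₜ z) = algebraMap K' Ω' z := fun z => by
    simp [g₂]
  obtain ⟨s, hs⟩ := exists_extend (g₁ : Ω ⊗[K] K' →+* Ω') (fun x => by
    let _ : Algebra (Ω ⊗[K] K') Ω' := (g₁ : Ω ⊗[K] K' →+* Ω').toAlgebra
    let _ : Algebra K' (Ω ⊗[K] K') := Algebra.TensorProduct.rightAlgebra
    have : IsScalarTower K' (Ω ⊗[K] K') Ω' := IsScalarTower.of_algebraMap_eq fun z => (hg₁' z).symm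
    exact (Algebra.IsSeparable.isSeparable K' x).tower_top (Ω ⊗[K] K')) (g₂ : Ω ⊗[K] K' →+* Ω')
  have hsK : ∀ z : K', s (algebraMap K' Ω' z) = algebraMap K' Ω' z := fun z => by
    rw [← hg₁' z]
    refine (hs (1 ⊗ₜ z)).trans ?_
    rw [hg₁' z]
    exact hg₂' z
  let sa : Ω' →ₐ[K'] Ω' := { s with commutes' := hsK }
  have hbij : Function.Bijective sa := Algebra.IsAlgebraic.algHom_bijective sa
  refine ⟨AlgEquiv.ofBijective sa hbij, fun y => ?_⟩
  change s (ι y) = ι (σ y)
  rw [← hg₁ y, ← hg₂ y]
  exact hs (y ⊗ₜ 1)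

end Lift

end Groth.Agent.Sga7.H25.LiftGal
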