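import Groth.Agent.Sga7.H754.SCDef
import Groth.Agent.EtpbcB.StrHensEquiv
import Mathlib.Topology.Algebra.OpenSubgroup
import Mathlib.FieldTheory.KrullTopology

/-!
# `PM` for ring homomorphisms

`f : X ⟶ Spec B`.  For a ring homomorphism `x : B →+* T`: `Pq f M x q = H^q(X ⊗_B T, M)`, and
`pm f M x x' u h q : Pq f M x q →+ Pq f M x' q` for `u : T →+* T'` over `B`.

* `pm_comp`, `pm_id`;
* `TrivOn f M m x τ`: the endomorphism `τ` of `T` over `B` acts trivially in degrees `≤ m`;
  `TrivOn.of_surjective`, `TrivOn.of_injective`;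
* `SCf`: bijectivity of `pm` for homomorphisms of separably closed fields, under `SC`;
* `trivSubgroup`, `mem_nhds_trivSubgroup`.
-/

set_option autoImplicit false

universe u

open CategoryTheory CategoryTheory.Limits AlgebraicGeometry IsLocalRing
open scoped Groth.Agent.Etcore.EtInst
open Groth.Agent.Etcore.EtInst Groth.Agent.Etcore.PullCoh Groth.Agent.Etcore.HC
open Groth.Agent.Sga7.H754.SCDef

namespace Groth.Agent.Sga7.H25.PmCalc

section bundled

/-- `H^q(X, M)` as a bundled group (this keeps the kernel away from the instances on `Ext`). -/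
noncomputable def HM (X : Scheme.{u}) (M : Type) [AddCommGroup M] (q : ℕ) : AddCommGrpCat.{u + 1} :=
  AddCommGrpCat.of (HH X (EtCoh.const X M) q)

/-- The map `HC` on bundled groups. -/
noncomputable def hm (M : Type) [AddCommGroup M] {X Y : Scheme.{u}} (g : X ⟶ Y) (q : ℕ) :
    HM Y M q →+ HM X M q := HC M g q

theorem hm_apply (M : Type) [AddCommGroup M] {X Y : Scheme.{u}} (g : X ⟶ Y) (q : ℕ)
    (x : HH Y (EtCoh.const Y M) q) : hm M g q x = HC M g q x := rfl

theorem bijective_hm_iff (M : Type) [AddCommGroup M] {X Y : Scheme.{u}} (g : X ⟶ Y) (q : ℕ) :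
    Function.Bijective (hm M g q) ↔ Function.Bijective (HC M g q) := Iff.rfl

theorem finite_HM_iff (X : Scheme.{u}) (M : Type) [AddCommGroup M] (q : ℕ) :
    Finite (HM X M q) ↔ Finite (HH X (EtCoh.const X M) q) := Iff.rfl

theorem hm_hm (M : Type) [AddCommGroup M] {X Y Z : Scheme.{u}} (g : X ⟶ Y) (h : Y ⟶ Z) (k : X ⟶ Z)
    (w : g ≫ h = k) (q : ℕ) (x : HM Z M q) : hm M g q (hm M h q x) = hm M k q x :=
  HC_HC M g h k w q x

theorem hm_id (M : Type) [AddCommGroup M] {X : Scheme.{u}} {g : X ⟶ X} (hg : g = 𝟙 X) (q : ℕ)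
    (x : HM X M q) : hm M g q x = x := by
  subst hg
  exact HC_id M q x

theorem bijective_hm_of_isIso (M : Type) [AddCommGroup M] {X Y : Scheme.{u}} (g : X ⟶ Y) [IsIso g]
    (q : ℕ) : Function.Bijective (hm M g q) :=
  (bijective_HC_iff M g q).2 (Groth.Agent.Etcore.HpullCalc.bijective_hp_of_isIso g _ q)

end bundled

variable {B : Type u} [CommRing B] {X : Scheme.{u}} (f : X ⟶ Spec (CommRingCat.of B))
  (M : Type) [AddCommGroup M]

/-- `H^q(X ⊗_B T, M)`. -/
noncomputable abbrev Pq {T : Type u} [CommRing T] (x : B →+* T) (q : ℕ) : AddCommGrpCat.{u + 1} :=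
  HM (pullback f (Spec.map (CommRingCat.ofHom x))) M q

theorem spec_comp {T T' : Type u} [CommRing T] [CommRing T'] {x : B →+* T} {x' : B →+* T'}
    {u : T →+* T'} (h : u.comp x = x') :
    Spec.map (CommRingCat.ofHom u) ≫ Spec.map (CommRingCat.ofHom x) =
      Spec.map (CommRingCat.ofHom x') := by
  rw [← Spec.map_comp, ← CommRingCat.ofHom_comp, h]

/-- The map `H^q(X ⊗_B T, M) → H^q(X ⊗_B T', M)` defined by `u : T →+* T'` over `B`. -/
noncomputable def pm {T T' : Type u} [CommRing T] [CommRing T'] (x : B →+* T) (x' : B →+* T')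
    (u : T →+* T') (h : u.comp x = x') (q : ℕ) : Pq f M x q →+ Pq f M x' q :=
  hm M (bm f (Spec.map (CommRingCat.ofHom u)) (Spec.map (CommRingCat.ofHom x))
    (Spec.map (CommRingCat.ofHom x')) (spec_comp h)) q

variable {f M}

theorem pm_comp {T T' T'' : Type u} [CommRing T] [CommRing T'] [CommRing T''] {x : B →+* T}
    {x' : B →+* T'} {x'' : B →+* T''} {u : T →+* T'} {v : T' →+* T''} {w : T →+* T''}
    (h : u.comp x = x') (h' : v.comp x' = x'') (hw : v.comp u = w) (h'' : w.comp x = x'') (q : ℕ)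
    (z : Pq f M x q) :
    pm f M x' x'' v h' q (pm f M x x' u h q z) = pm f M x x'' w h'' q z := by
  subst hw
  refine hm_hm M _ _ _ ?_ q z
  rw [bm_comp]
  congr 1
  rw [← Spec.map_comp, ← CommRingCat.ofHom_comp]

theorem pm_id {T : Type u} [CommRing T] {x : B →+* T} {u : T →+* T} (hu : u = RingHom.id T)
    (h : u.comp x = x) (q : ℕ) (z : Pq f M x q) : pm f M x x u h q z = z := by
  subst hu
  refine hm_id M ?_ q z
  apply pullback.hom_ext
  · rw [bm_fst, Category.id_comp]
  · rw [bm_snd, Category.id_comp, CommRingCat.ofHom_id, Spec.map_id, Category.comp_id]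

theorem pm_congr {T T' : Type u} [CommRing T] [CommRing T'] {x : B →+* T}
    {x' : B →+* T'} {u v : T →+* T'} (huv : u = v) (h : u.comp x = x') (h' : v.comp x = x') (q : ℕ)
    (z : Pq f M x q) : pm f M x x' u h q z = pm f M x x' v h' q z := by
  subst huv
  rfl

variable (f M)

/-- `τ` acts trivially on `H^q(X ⊗_B T, M)` for `q ≤ m`. -/
def TrivOn (m : ℕ) {T : Type u} [CommRing T] (x : B →+* T) (τ : T →+* T) : Prop :=
  ∀ (h : τ.comp x = x) (q : ℕ), q ≤ m → ∀ z : Pq f M x q, pm f M x x τ h q z = z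

variable {f M}

theorem TrivOn.id {m : ℕ} {T : Type u} [CommRing T] {x : B →+* T} {τ : T →+* T}
    (hτ : τ = RingHom.id T) : TrivOn f M m x τ := fun h q _ z => pm_id hτ h q z

theorem TrivOn.comp {m : ℕ} {T : Type u} [CommRing T] {x : B →+* T} {σ τ : T →+* T}
    (hσ : TrivOn f M m x σ) (hτ : TrivOn f M m x τ) (hσx : σ.comp x = x) (hτx : τ.comp x = x) :
    TrivOn f M m x (σ.comp τ) := by
  intro h q hq z
  rw [← pm_comp hτx hσx rfl h q z, hτ hτx q hq, hσ hσx q hq]

/-- Transfer of triviality along a surjective comparison map. -/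
theorem TrivOn.of_surjective {m : ℕ} {T T' : Type u} [CommRing T] [CommRing T'] {x : B →+* T}
    {x' : B →+* T'} {τ : T →+* T} {τ' : T' →+* T'} (u : T →+* T') (hu : u.comp x = x')
    (hc : τ'.comp u = u.comp τ) (hτ : TrivOn f M m x τ) (hτx : τ.comp x = x)
    (hsurj : ∀ q ≤ m, Function.Surjective (pm f M x x' u hu q)) : TrivOn f M m x' τ' := by
  intro h q hq z
  obtain ⟨y, rfl⟩ := hsurj q hq z
  have h1 : (u.comp τ).comp x = x' := by rw [RingHom.comp_assoc, hτx, hu]
  rw [pm_comp hu h hc h1 q y, ← pm_comp hτx hu rfl h1 q y, hτ hτx q hq]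

/-- Transfer of triviality along an injective comparison map. -/
theorem TrivOn.of_injective {m : ℕ} {T T' : Type u} [CommRing T] [CommRing T'] {x : B →+* T}
    {x' : B →+* T'} {τ : T →+* T} {τ' : T' →+* T'} (u : T →+* T') (hu : u.comp x = x')
    (hc : τ'.comp u = u.comp τ) (hτ : TrivOn f M m x' τ') (hτx : τ'.comp x' = x')
    (hinj : ∀ q ≤ m, Function.Injective (pm f M x x' u hu q)) : TrivOn f M m x τ := by
  intro h q hq z
  apply hinj q hq
  have h1 : (u.comp τ).comp x = x' := by rw [RingHom.comp_assoc, h, hu]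
  rw [pm_comp h hu rfl h1 q z, ← pm_comp hu hτx hc h1 q z, hτ hτx q hq]

/-- The residue field of a field. -/
theorem isSepClosed_residueField (Ω : Type u) [Field Ω] [IsSepClosed Ω] :
    IsSepClosed (ResidueField Ω) :=
  EtpbcB.StrHensEquiv.isSepClosed_of_ringEquiv (RingEquiv.ofBijective (residue Ω)
    ⟨(residue Ω).injective, residue_surjective⟩)

/-- Under `SC`, homomorphisms from strictly henselian local rings to separably closed fields induce
bijections. -/
theorem bijective_of_SC {m : ℕ} (hSC : SC M f m) {T Ω : Type u} [CommRing T] [HenselianLocalRing T]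
    [IsSepClosed (ResidueField T)] [Field Ω] [IsSepClosed Ω] (x : B →+* T) (x' : B →+* Ω) (u : T →+* Ω)
    (hu : u.comp x = x') (q : ℕ) (hq : q ≤ m) : Function.Bijective (pm f M x x' u hu q) :=
  (bijective_hm_iff M _ q).2 (hSC T Ω u _ _ (spec_comp hu) q hq)

/-- Under `SC`, homomorphisms of separably closed fields induce bijections. -/
theorem bijective_of_SC_field {m : ℕ} (hSC : SC M f m) {Ω Ω' : Type u} [Field Ω]
    [IsSepClosed Ω] [Field Ω'] [IsSepClosed Ω'] (x : B →+* Ω) (x' : B →+* Ω') (u : Ω →+* Ω')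
    (hu : u.comp x = x') (q : ℕ) (hq : q ≤ m) : Function.Bijective (pm f M x x' u hu q) := by
  have := isSepClosed_residueField Ω
  exact bijective_of_SC hSC x x' u hu q hq

section Gal

variable {F : Type u} [Field F] {E : Type u} [Field E] [Algebra F E]

/-- Automorphisms over a base acting trivially. -/
theorem comp_algebraMap {x₀ : B →+* F} (τ : E ≃ₐ[F] E) :
    (τ : E →+* E).comp ((algebraMap F E).comp x₀) = (algebraMap F E).comp x₀ :=
  RingHom.ext fun b => τ.commutes (x₀ b)

variable (f M E)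

/-- The subgroup of automorphisms acting trivially in degrees `≤ m`. -/
def trivSubgroup (m : ℕ) (x₀ : B →+* F) : Subgroup (E ≃ₐ[F] E) where
  carrier := {τ | TrivOn f M m ((algebraMap F E).comp x₀) (τ : E →+* E)}
  mul_mem' {σ τ} hσ hτ := TrivOn.comp hσ hτ (comp_algebraMap σ) (comp_algebraMap τ)
  one_mem' := TrivOn.id rfl
  inv_mem' {σ} hσ := by
    intro h q hq z
    have h1 : ((σ⁻¹ : E ≃ₐ[F] E) : E →+* E).comp (σ : E →+* E) = RingHom.id E :=
      RingHom.ext fun y => σ.symm_apply_apply y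
    have h2 := pm_comp (f := f) (M := M) (comp_algebraMap (x₀ := x₀) σ) h h1 (RingHom.id_comp _) q z
    rw [hσ (comp_algebraMap σ) q hq z, pm_id rfl] at h2
    exact h2

theorem mem_trivSubgroup {m : ℕ} {x₀ : B →+* F} {τ : E ≃ₐ[F] E} :
    τ ∈ trivSubgroup f M E m x₀ ↔ TrivOn f M m ((algebraMap F E).comp x₀) (τ : E →+* E) := Iff.rfl

variable {f M E}

/-- If the groups are finite and classes have open stabilizers, the subgroup acting trivially is open. -/
theorem isOpen_trivSubgroup (m : ℕ) (x₀ : B →+* F)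
    (hfin : ∀ q ≤ m, Finite (Pq f M ((algebraMap F E).comp x₀) q))
    (hstab : ∀ q ≤ m, ∀ z : Pq f M ((algebraMap F E).comp x₀) q,
      ∃ U : OpenSubgroup (E ≃ₐ[F] E), ∀ σ ∈ U, pm f M _ _ (σ : E →+* E) (comp_algebraMap σ) q z = z) :
    IsOpen (trivSubgroup f M E m x₀ : Set (E ≃ₐ[F] E)) := by
  refine Subgroup.isOpen_of_mem_nhds _ (g := 1) ?_
  have h1 : ∀ q ≤ m, {σ : E ≃ₐ[F] E | ∀ z : Pq f M ((algebraMap F E).comp x₀) q,
      pm f M _ _ (σ : E →+* E) (comp_algebraMap σ) q z = z} ∈ nhds (1 : E ≃ₐ[F] E) := by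
    intro q hq
    have := hfin q hq
    choose U hU using hstab q hq
    have h2 : (⋂ z, (U z : Set (E ≃ₐ[F] E))) ∈ nhds (1 : E ≃ₐ[F] E) :=
      (Filter.iInter_mem).2 fun z => (U z).mem_nhds_one
    exact Filter.mem_of_superset h2 fun σ hσ z => hU z σ (Set.mem_iInter.1 hσ z)
  have h3 := (Filter.biInter_mem (Set.finite_Iic m)).2 fun q hq => h1 q hq
  refine Filter.mem_of_superset h3 fun σ hσ => ?_
  intro h q hq z
  exact Set.mem_iInter₂.1 hσ q hq z

end Gal

end Groth.Agent.Sga7.H25.PmCalc
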